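import Cfsg.Agent.FS.N.M.All
import Cfsg.Agent.FS.N.L.Main
import Cfsg.Agent.FS.N.D.Uni
import Cfsg.Agent.FS.N.G.Old

/-!
# `Low` for the entries of the table (helper44, project FS/N)
-/

set_option autoImplicit false
set_option Elab.async false

namespace Cfsg.Agent.FS.N.M

open Cfsg Cfsg.Agent.FS.Real

theorem lowE_all {E : List (Ent × ℕ)} (h : (E.all fun q => L.lowB L.W0 q.1) = true) :
    ∀ p ∈ E.map Prod.fst, L.LowE p := fun p hp => by
  obtain ⟨q, hq, rfl⟩ := List.mem_map.1 hp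
  exact L.lowE_of (List.all_eq_true.1 h q hq)

theorem low_app {E E' : List (Ent × ℕ)} (h : ∀ p ∈ E.map Prod.fst, L.LowE p) (h' : ∀ p ∈ E'.map Prod.fst, L.LowE p) :
    ∀ p ∈ (E ++ E').map Prod.fst, L.LowE p := by
  rw [List.map_append]
  exact List.forall_mem_append.2 ⟨h, h'⟩

theorem lw_dD8 : ∀ p ∈ E_dD8.map Prod.fst, L.LowE p := lowE_all (by decide +kernel)

theorem lowE3 : ∀ p ∈ Ents3.map Prod.fst, L.LowE p :=
  lw_dD8

theorem lw_dD16 : ∀ p ∈ E_dD16.map Prod.fst, L.LowE p := lowE_all (by decide +kernel)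

theorem lw_eLa1 : ∀ p ∈ E_eLa1.map Prod.fst, L.LowE p := lowE_all (by decide +kernel)

theorem lw_dQ16 : ∀ p ∈ E_dQ16.map Prod.fst, L.LowE p := lowE_all (by decide +kernel)

theorem lowE4 : ∀ p ∈ Ents4.map Prod.fst, L.LowE p :=
  low_app lw_dD16 (low_app lw_eLa1 (lw_dQ16))

theorem lw_eLa3 : ∀ p ∈ E_eLa3.map Prod.fst, L.LowE p := lowE_all (by decide +kernel)

theorem lw_dD32 : ∀ p ∈ E_dD32.map Prod.fst, L.LowE p := lowE_all (by decide +kernel)

theorem lw_eLb3 : ∀ p ∈ E_eLb3.map Prod.fst, L.LowE p := lowE_all (by decide +kernel)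

theorem lw_dQ32 : ∀ p ∈ E_dQ32.map Prod.fst, L.LowE p := lowE_all (by decide +kernel)

theorem lw_dW32 : ∀ p ∈ E_dW32.map Prod.fst, L.LowE p := lowE_all (by decide +kernel)

theorem lowE5 : ∀ p ∈ Ents5.map Prod.fst, L.LowE p :=
  low_app lw_eLa3 (low_app lw_dD32 (low_app lw_eLb3 (low_app lw_dQ32 (lw_dW32))))

theorem lw_eLb1 : ∀ p ∈ E_eLb1.map Prod.fst, L.LowE p := lowE_all (by decide +kernel)

theorem lw_eLb2 : ∀ p ∈ E_eLb2.map Prod.fst, L.LowE p := lowE_all (by decide +kernel)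

theorem lw_eLb6 : ∀ p ∈ E_eLb6.map Prod.fst, L.LowE p := lowE_all (by decide +kernel)

theorem lw_dD64 : ∀ p ∈ E_dD64.map Prod.fst, L.LowE p := lowE_all (by decide +kernel)

theorem lw_eLc5 : ∀ p ∈ E_eLc5.map Prod.fst, L.LowE p := lowE_all (by decide +kernel)

theorem lw_dQ64 : ∀ p ∈ E_dQ64.map Prod.fst, L.LowE p := lowE_all (by decide +kernel)

theorem lw_dM12 : ∀ p ∈ E_dM12.map Prod.fst, L.LowE p := lowE_all (by decide +kernel)

theorem lw_dU34 : ∀ p ∈ E_dU34.map Prod.fst, L.LowE p := lowE_all (by decide +kernel)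

theorem lw_dU42 : ∀ p ∈ E_dU42.map Prod.fst, L.LowE p := lowE_all (by decide +kernel)

theorem lowE6 : ∀ p ∈ Ents6.map Prod.fst, L.LowE p :=
  low_app lw_eLb1 (low_app lw_eLb2 (low_app lw_eLb6 (low_app lw_dD64 (low_app lw_eLc5 (low_app lw_dQ64 (low_app lw_dM12 (low_app lw_dU34 (lw_dU42))))))))

theorem lw_eLb5 : ∀ p ∈ E_eLb5.map Prod.fst, L.LowE p := lowE_all (by decide +kernel)

theorem lw_eLc3 : ∀ p ∈ E_eLc3.map Prod.fst, L.LowE p := lowE_all (by decide +kernel)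

theorem lw_eLc4 : ∀ p ∈ E_eLc4.map Prod.fst, L.LowE p := lowE_all (by decide +kernel)

theorem lw_eLc9 : ∀ p ∈ E_eLc9.map Prod.fst, L.LowE p := lowE_all (by decide +kernel)

theorem lw_dD128 : ∀ p ∈ E_dD128.map Prod.fst, L.LowE p := lowE_all (by decide +kernel)

theorem lw_eLd5 : ∀ p ∈ E_eLd5.map Prod.fst, L.LowE p := lowE_all (by decide +kernel)

theorem lw_dQ128 : ∀ p ∈ E_dQ128.map Prod.fst, L.LowE p := lowE_all (by decide +kernel)

theorem lw_dA10 : ∀ p ∈ E_dA10.map Prod.fst, L.LowE p := lowE_all (by decide +kernel)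

theorem lw_dM22 : ∀ p ∈ E_dM22.map Prod.fst, L.LowE p := lowE_all (by decide +kernel)

theorem lw_eL342 : ∀ p ∈ E_eL342.map Prod.fst, L.LowE p := lowE_all (by decide +kernel)

theorem lw_dJ2 : ∀ p ∈ E_dJ2.map Prod.fst, L.LowE p := lowE_all (by decide +kernel)

theorem lw_dM122 : ∀ p ∈ E_dM122.map Prod.fst, L.LowE p := lowE_all (by decide +kernel)

theorem lw_dW128 : ∀ p ∈ E_dW128.map Prod.fst, L.LowE p := lowE_all (by decide +kernel)

theorem lowE7 : ∀ p ∈ Ents7.map Prod.fst, L.LowE p :=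
  low_app lw_eLb5 (low_app lw_eLc3 (low_app lw_eLc4 (low_app lw_eLc9 (low_app lw_dD128 (low_app lw_eLd5 (low_app lw_dQ128 (low_app lw_dA10 (low_app lw_dM22 (low_app lw_eL342 (low_app lw_dJ2 (low_app lw_dM122 (lw_dW128))))))))))))

theorem lowE0 : ∀ p ∈ [G.ent0], L.LowE p := fun p hp => by
  rw [List.mem_singleton.1 hp]
  exact L.lowE_of (W := 0) (by decide +kernel)

/-- **`Low` from the levels `3` to `7`.** -/
theorem low (h3 : Lev 3 (Ents3.map Prod.fst)) (h4 : Lev 4 (Ents4.map Prod.fst)) (h5 : Lev 5 (Ents5.map Prod.fst))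
    (h6 : Lev 6 (Ents6.map Prod.fst)) (h7 : Lev 7 (Ents7.map Prod.fst)) : Low dU34 :=
  L.low_of D.boxD2 fun n hn => by
    interval_cases n
    exacts [⟨_, G.lev0, lowE0⟩, ⟨_, G.lev1, fun _ h => nomatch h⟩, ⟨_, G.lev2, fun _ h => nomatch h⟩, ⟨_, h3, lowE3⟩,
      ⟨_, h4, lowE4⟩, ⟨_, h5, lowE5⟩, ⟨_, h6, lowE6⟩, ⟨_, h7, lowE7⟩]

end Cfsg.Agent.FS.N.M
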