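import Cfsg.Agent.FS.N.M.Rz

/-!
# Certificates for `Base` and `Rz2` (helper44, project FS/N)
-/

set_option autoImplicit false

namespace Cfsg.Agent.FS.N.M

open Cfsg Cfsg.FusionSystem Cfsg.Agent.H752 Cfsg.Agent.H759 Cfsg.Agent.FS.Th Cfsg.Agent.FS.Real
open scoped Pointwise

/-! ### masks -/

/-- number of bits below `N` -/
noncomputable def cnt (K N : ℕ) : ℕ := Nat.rec 0 (fun k r => bif tb K k then r + 1 else r) N

theorem cnt_eq (K : ℕ) : ∀ N, cnt K N = ((Finset.range N).filter fun a => tb K a = true).card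
  | 0 => rfl
  | N + 1 => by
    have h : cnt K (N + 1) = bif tb K N then cnt K N + 1 else cnt K N := rfl
    rw [h, Finset.range_add_one, Finset.filter_insert, cnt_eq K N]
    cases h1 : tb K N
    · rw [cond_false, if_neg (by simp)]
    · rw [cond_true, if_pos rfl, Finset.card_insert_of_notMem (by simp)]

/-- `K ∪ K g` -/
noncomputable def ext1 (D : PcD) (K g : ℕ) : ℕ :=
  Nat.rec K (fun a r => bif tb K a then r ||| 2 ^ D.mul a g else r) (2 ^ D.n)

/-- the products of the elements of the list -/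
noncomputable def span (D : PcD) (l : List ℕ) : ℕ := List.rec 1 (fun g _ K => force K fun K => ext1 D K g) l

section

variable {G : Type} [Group G] {D : PcD} {x : ℕ → G} {S : Subgroup G}

theorem ext1_mem (H : Gen D S x) {Q : Subgroup G} {K g : ℕ} (hK : ∀ a, tb K a = true → el x D.n a ∈ Q)
    (hg : el x D.n g ∈ Q) (a : ℕ) (ha : tb (ext1 D K g) a = true) : el x D.n a ∈ Q := by
  have key : ∀ m, m ≤ D.N → ∀ a, tb (Nat.rec K (fun a r => bif tb K a then r ||| 2 ^ D.mul a g else r) m) a = true →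
      el x D.n a ∈ Q := by
    intro m
    induction m with
    | zero => exact fun _ => hK
    | succ m ih =>
      intro hm b hb
      have hb' : tb (bif tb K m then (Nat.rec K (fun a r => bif tb K a then r ||| 2 ^ D.mul a g else r) m : ℕ) |||
          2 ^ D.mul m g else Nat.rec K (fun a r => bif tb K a then r ||| 2 ^ D.mul a g else r) m) b = true := hb
      cases h1 : tb K m
      · rw [h1] at hb'
        exact ih (by omega) b hb'
      · rw [h1, cond_true] at hb'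
        rcases Mdl.tb_or_two_pow hb' with h2 | rfl
        · exact ih (by omega) b h2
        · rw [← H.mul (by omega)]
          exact Q.mul_mem (hK m h1) hg
  exact key _ le_rfl a ha

theorem span_mem (H : Gen D S x) {Q : Subgroup G} (l : List ℕ) (hl : ∀ g ∈ l, el x D.n g ∈ Q) :
    ∀ a, tb (span D l) a = true → el x D.n a ∈ Q := by
  induction l with
  | nil =>
    intro a ha
    rw [show span D [] = 2 ^ 0 from rfl, tb_eq, Nat.testBit_two_pow, decide_eq_true_eq] at ha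
    rw [← ha, el_nil]
    exact Q.one_mem
  | cons g l ih =>
    rw [show span D (g :: l) = force (span D l) fun K => ext1 D K g from rfl, force_eq]
    exact ext1_mem H (ih fun k hk => hl k (List.mem_cons_of_mem _ hk)) (hl g List.mem_cons_self)

theorem ncard_mask (H : Gen D S x) (K : ℕ) :
    Set.ncard {g | ∃ a, a < D.N ∧ tb K a = true ∧ el x D.n a = g} = cnt K D.N := by
  have h : {g | ∃ a, a < D.N ∧ tb K a = true ∧ el x D.n a = g} =
      el x D.n '' ((Finset.range D.N).filter fun a => tb K a = true : Finset ℕ) := by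
    ext g
    simp only [Set.mem_ofPred_eq, Set.mem_image, Finset.mem_coe, Finset.mem_filter, Finset.mem_range, and_assoc]
  rw [h, Set.InjOn.ncard_image, Set.ncard_coe_finset, cnt_eq]
  intro a ha b hb k
  exact H.inj (Finset.mem_range.1 (Finset.mem_filter.1 ha).1) (Finset.mem_range.1 (Finset.mem_filter.1 hb).1) k

/-- `G = N S`: the Sylow subgroup and the mask. -/
theorem hk_of [Finite G] (H : Gen D S x) (N : Subgroup G) [N.Normal] (hs : N ⊔ S = ⊤) {e K : ℕ}
    (he : ¬ 2 ^ (e + 1) ∣ Nat.card N) (hc : cnt K D.N = 2 ^ e) (hK : ∀ a, tb K a = true → el x D.n a ∈ pResidual 2 G) :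
    (∃ T : Sylow 2 G, (T : Subgroup G) = S) ∧ HK D x K ∧ pResidual 2 G ≤ N ∧ Nat.card G * 2 ^ e = Nat.card N * 2 ^ D.n := by
  have : Fact (Nat.Prime 2) := ⟨Nat.prime_two⟩
  have h1 : pResidual 2 G ≤ N := by
    refine Transfer.Residual.pResidual_le_of_isPGroup_quotient
      (H.isPGroup.of_surjective ((QuotientGroup.mk' N).comp S.subtype) fun q => ?_)
    obtain ⟨g, rfl⟩ := QuotientGroup.mk'_surjective N q
    have hg : g ∈ (N : Set G) * (S : Set G) := by
      rw [← Subgroup.normal_mul, hs]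
      exact Subgroup.mem_top g
    obtain ⟨u, hu, s, hs', rfl⟩ := hg
    refine ⟨⟨s, hs'⟩, ?_⟩
    show QuotientGroup.mk' N s = QuotientGroup.mk' N (u * s)
    rw [map_mul, show QuotientGroup.mk' N u = 1 from (QuotientGroup.eq_one_iff u).2 hu, one_mul]
  obtain ⟨j, hj⟩ := IsPGroup.iff_card.1 (H.isPGroup.to_le (inf_le_right : N ⊓ S ≤ S))
  have h2 : j ≤ e := by
    by_contra h
    exact he ((pow_dvd_pow 2 (by omega)).trans (hj ▸ Subgroup.card_dvd_of_le (inf_le_left : N ⊓ S ≤ N)))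
  have h3 : {g | ∃ a, a < D.N ∧ tb K a = true ∧ el x D.n a = g} ⊆ (N ⊓ S : Subgroup G) := by
    rintro _ ⟨a, ha, k, rfl⟩
    exact ⟨h1 (hK a k), H.el_mem ha⟩
  have h4 : ((N ⊓ S : Subgroup G) : Set G).ncard = 2 ^ j := by rw [← hj]; rfl
  have h5 : 2 ^ j ≤ 2 ^ e := Nat.pow_le_pow_right (by norm_num) h2
  have h6 := Set.eq_of_subset_of_ncard_le h3 (by rw [ncard_mask H, hc, h4]; exact h5) (Set.toFinite _)
  have h7 : 2 ^ j = 2 ^ e := by rw [← h4, ← h6, ncard_mask H, hc]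
  have h8 : Nat.card G * 2 ^ e = Nat.card N * 2 ^ D.n := by
    have k1 : N.relIndex S = N.index := by rw [← Subgroup.relIndex_sup_left, hs, Subgroup.relIndex_top_right]
    have k2 : Nat.card (N ⊓ S : Subgroup G) * N.relIndex S = Nat.card S := by
      rw [← Subgroup.inf_relIndex_right, ← (((N ⊓ S).subgroupOf S).card_mul_index),
        Nat.card_congr (Subgroup.subgroupOfEquivOfLe (inf_le_right : N ⊓ S ≤ S)).toEquiv]
      rfl
    rw [← H.card, ← k2, k1, hj, h7, ← N.card_mul_index]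
    ring
  refine ⟨⟨H.isPGroup.toSylow fun h => he ?_, rfl⟩, fun a ha => ⟨fun k => ?_, hK a⟩, h1, h8⟩
  · have k1 := S.card_mul_index
    rw [H.card] at k1
    rw [← k1, mul_assoc, mul_comm (Nat.card N)] at h8
    rw [← Nat.eq_of_mul_eq_mul_left (Nat.two_pow_pos _) h8, pow_succ, mul_comm]
    exact Nat.mul_dvd_mul h dvd_rfl
  · have k1 : el x D.n a ∈ ((N ⊓ S : Subgroup G) : Set G) := ⟨h1 k, H.el_mem ha⟩
    rw [← h6] at k1
    obtain ⟨b, hb, k2, k3⟩ := k1
    rwa [← H.inj hb ha k3]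

/-- trivial core -/
theorem core_of [Finite G] {T : Sylow 2 G} (H : Gen D T x)
    (hc : ∀ z ∈ D.zl, ∀ Q : Subgroup G,
      (∀ a b, el x D.n a ∈ Q → IsConj (el x D.n a) (el x D.n b) → el x D.n b ∈ Q) → el x D.n z ∈ Q →
      ∃ a b, a < D.N ∧ b < D.N ∧ el x D.n a ∈ Q ∧ el x D.n b ∈ Q ∧ D.mul a b ≠ D.mul b a) :
    (groupFusionSystem (T : Subgroup G)).core = ⊥ := by
  have : Fact (Nat.Prime 2) := ⟨Nat.prime_two⟩
  by_contra h0
  obtain ⟨Q, hQ0, hQc, hQS, hQ⟩ := (S5089.result 2 H.isPGroup _ (S5076.result 2 T)).1 h0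
  have key : ∀ t ∈ Q, ∀ g : G, g * t * g⁻¹ ∈ (T : Subgroup G) → g * t * g⁻¹ ∈ Q := by
    intro t ht g hg
    have h1 : Subgroup.zpowers t ≤ Q := Subgroup.zpowers_le.2 ht
    refine hQ _ h1 (conjHom _ g) ⟨h1.trans hQS, ?_, g, fun _ => rfl⟩ ⟨t, Subgroup.mem_zpowers t⟩
    rintro ⟨_, k, rfl⟩
    show g * t ^ k * g⁻¹ ∈ (T : Subgroup G)
    rw [← conj_zpow]
    exact Subgroup.zpow_mem _ hg k
  obtain ⟨z, hz, hzQ⟩ := H.exists_z hQS (fun s hs a ha => key a ha s
    ((T : Subgroup G).mul_mem ((T : Subgroup G).mul_mem hs (hQS ha)) ((T : Subgroup G).inv_mem hs))) hQ0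
  obtain ⟨a, b, ha, hb, h1, h2, h3⟩ := hc z hz Q (fun a c ha hc => by
    obtain ⟨g, hg⟩ := isConj_iff.1 hc
    rw [← hg]
    refine key _ ha g ?_
    rw [hg]
    exact H.el_mem' c) hzQ
  have h4 := congrArg Subtype.val (hQc.is_comm.comm ⟨_, h1⟩ ⟨_, h2⟩)
  have h5 : el x D.n a * el x D.n b = el x D.n b * el x D.n a := h4
  rw [H.mul ha, H.mul hb] at h5
  exact h3 (H.inj (D.mul_lt ha _) (D.mul_lt hb _) h5)

end

/-! ### not decomposable -/

/-- derivation: a step `(a, b, t)` is the product `a * b` (`t = 0`), the conjugate of `a` by `b ∈ K` (`t = 1`), or the pair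
`(a, b)` of the list `o` -/
noncomputable def dn (D : PcD) (K : ℕ) (o : List (ℕ × ℕ)) (l : List (ℕ × ℕ × ℕ)) (X : ℕ) : ℕ :=
  List.rec (fun X => X) (fun p _ r X => force X fun X =>
    r (bif tb X p.1 && Nat.blt p.1 (2 ^ D.n) then
      bif Nat.beq p.2.2 0 then (bif tb X p.2.1 then X ||| 2 ^ D.mul p.1 p.2.1 else X)
      else bif Nat.beq p.2.2 1 then (bif tb K p.2.1 && Nat.blt p.2.1 (2 ^ D.n) then X ||| 2 ^ D.cj p.2.1 p.1 else X)
      else (bif o.any fun q => Nat.beq q.1 p.1 && Nat.beq q.2 p.2.1 then X ||| 2 ^ p.2.1 else X)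
    else X)) l X

/-- check: `zl` contains the central involutions of `K`, and two of them cannot lie in the two factors -/
noncomputable def ndc (D : PcD) (K : ℕ) (g0 zl : List ℕ) (o : List (ℕ × ℕ)) (l : List (ℕ × ℕ × ℕ))
    (e : List (ℕ × ℕ)) : Bool :=
  (g0.all fun b => tb K b && Nat.blt b (2 ^ D.n)) &&
  (allB (2 ^ D.n) fun a => !tb K a || Nat.beq a 0 || !Nat.beq (D.mul a a) 0 ||
    (g0.any fun b => !Nat.beq (D.mul a b) (D.mul b a)) || zl.any fun z => Nat.beq z a) &&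
  zl.all fun z => zl.all fun w => Nat.ble w z || force (dn D K o l (2 ^ z)) fun X => force (dn D K o l (2 ^ w)) fun Y =>
    e.any fun p => tb X p.1 && tb Y p.2 && Nat.blt p.1 (2 ^ D.n) && Nat.blt p.2 (2 ^ D.n) &&
      (!Nat.beq (D.mul p.1 p.2) (D.mul p.2 p.1) || (Nat.beq p.1 p.2 && !Nat.beq p.1 0))

section

variable {G : Type} [Group G] {D : PcD} {x : ℕ → G} {S : Subgroup G}

theorem dn_mem (H : Gen D S x) {K : ℕ} {o : List (ℕ × ℕ)} {Q : Subgroup G}
    (h1 : ∀ b, b < D.N → tb K b = true → ∀ u ∈ Q, el x D.n b * u * (el x D.n b)⁻¹ ∈ Q)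
    (h2 : ∀ q ∈ o, el x D.n q.1 ∈ Q → el x D.n q.2 ∈ Q) (l : List (ℕ × ℕ × ℕ)) :
    ∀ X : ℕ, (∀ a, tb X a = true → el x D.n a ∈ Q) → ∀ a, tb (dn D K o l X) a = true → el x D.n a ∈ Q := by
  induction l with
  | nil => exact fun X h => h
  | cons p l ih =>
    intro X h
    have h3 : dn D K o (p :: l) X = force X fun X => dn D K o l (bif tb X p.1 && Nat.blt p.1 (2 ^ D.n) then
      bif Nat.beq p.2.2 0 then (bif tb X p.2.1 then X ||| 2 ^ D.mul p.1 p.2.1 else X)
      else bif Nat.beq p.2.2 1 then (bif tb K p.2.1 && Nat.blt p.2.1 (2 ^ D.n) then X ||| 2 ^ D.cj p.2.1 p.1 else X)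
      else (bif o.any fun q => Nat.beq q.1 p.1 && Nat.beq q.2 p.2.1 then X ||| 2 ^ p.2.1 else X)
      else X) := rfl
    rw [h3, force_eq]
    refine ih _ ?_
    cases h4 : (tb X p.1 && Nat.blt p.1 (2 ^ D.n))
    · exact h
    rw [Bool.and_eq_true] at h4
    cases Nat.beq p.2.2 0
    · cases Nat.beq p.2.2 1
      · cases h5 : (o.any fun q => Nat.beq q.1 p.1 && Nat.beq q.2 p.2.1)
        · exact h
        · intro a ha
          obtain ⟨q, hq, h6⟩ := List.any_eq_true.1 h5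
          rw [Bool.and_eq_true] at h6
          rcases Mdl.tb_or_two_pow ha with ha | rfl
          · exact h a ha
          · rw [← beq_eq h6.2]
            exact h2 q hq (by rw [beq_eq h6.1]; exact h _ h4.1)
      · cases h5 : (tb K p.2.1 && Nat.blt p.2.1 (2 ^ D.n))
        · exact h
        · intro a ha
          rw [Bool.and_eq_true] at h5
          rcases Mdl.tb_or_two_pow ha with ha | rfl
          · exact h a ha
          · rw [← H.cj (blt_lt h5.2)]
            exact h1 _ (blt_lt h5.2) h5.1 _ (h _ h4.1)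
    · cases h5 : tb X p.2.1
      · exact h
      · intro a ha
        rcases Mdl.tb_or_two_pow ha with ha | rfl
        · exact h a ha
        · rw [← H.mul (blt_lt h4.2)]
          exact Q.mul_mem (h _ h4.1) (h _ h5)

/-- an element of order three moves `el a` to `el b` inside `S` -/
def Od3 (D : PcD) (x : ℕ → G) (q : ℕ × ℕ) : Prop :=
  ∃ (g : G) (d : ℕ), g * g * g = 1 ∧ Act D x g q.1 q.2 ∧ Act D x g q.2 d

theorem ndg_of [Finite G] (H : Gen D S x) {K : ℕ} (hK : HK D x K) {g0 zl : List ℕ} {o : List (ℕ × ℕ)}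
    {l : List (ℕ × ℕ × ℕ)} {e : List (ℕ × ℕ)} (ho : ∀ q ∈ o, Od3 D x q) (h : ndc D K g0 zl o l e = true) : NDG S := by
  unfold ndc at h
  simp only [Bool.and_eq_true, List.all_eq_true] at h
  obtain ⟨⟨h1, h2⟩, h3⟩ := h
  have hres : ∀ b, b < D.N → tb K b = true → el x D.n b ∈ res S := fun b hb k => ⟨H.el_mem hb, (hK b hb).2 k⟩
  have kz : ∀ X Y : Subgroup G, X ≠ ⊥ → X ⊔ Y = res S → (∀ u ∈ X, ∀ v ∈ Y, u * v = v * u) →
      ∃ z ∈ zl, el x D.n z ∈ X ∧ el x D.n z ≠ 1 := by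
    intro X Y hX hs hc
    have hXS : X ≤ res S := hs ▸ le_sup_left
    have : Nontrivial X := (Subgroup.nontrivial_iff_ne_bot X).2 hX
    obtain ⟨z, z2, z1, zc⟩ := Asm.exists_central_involution (H.isPGroup.to_le (hXS.trans inf_le_left))
    obtain ⟨a, ha, k⟩ := (H.mem z).1 (hXS z.2).1
    have k1 : res S ≤ Subgroup.centralizer {(z : G)} := by
      rw [← hs]
      exact sup_le (fun u hu => Subgroup.mem_centralizer_singleton_iff.2 (congrArg Subtype.val (zc ⟨u, hu⟩)).symm)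
        fun v hv => Subgroup.mem_centralizer_singleton_iff.2 (hc z z.2 v hv).symm
    have k2 : (z : G) ≠ 1 := fun h => z1 (Subtype.ext h)
    have k3 := allB_spec h2 ha
    simp only [Bool.or_eq_true, List.any_eq_true] at k3
    rcases k3 with (((k3 | k3) | k3) | ⟨b, hb, k3⟩) | ⟨w, hw, k3⟩
    · rw [(hK a ha).1 (k ▸ (hXS z.2).2)] at k3
      cases k3
    · rw [beq_eq k3, el_nil] at k
      exact absurd k.symm k2
    · refine absurd (H.eq_zero (D.mul_lt ha a) ?_) (nbeq_ne k3)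
      rw [← H.mul ha, k]
      exact congrArg Subtype.val z2
    · have k4 := h1 b hb
      refine absurd (H.inj (D.mul_lt ha b) (D.mul_lt (blt_lt k4.2) a) ?_) (nbeq_ne k3)
      rw [← H.mul ha, ← H.mul (blt_lt k4.2), k]
      exact (Subgroup.mem_centralizer_singleton_iff.1 (k1 (hres b (blt_lt k4.2) k4.1))).symm
    · refine ⟨w, hw, ?_⟩
      rw [beq_eq k3, k]
      exact ⟨z.2, k2⟩
  have kd : ∀ X Y : Subgroup G, X ⊔ Y = res S → (∀ u ∈ X, ∀ v ∈ Y, u * v = v * u) →
      (∀ g u : G, g * g * g = 1 → u ∈ S → g * u * g⁻¹ ∈ S → g * (g * u * g⁻¹) * g⁻¹ ∈ S → u ∈ X → g * u * g⁻¹ ∈ X) →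
      ∀ z, el x D.n z ∈ X → ∀ a, tb (dn D K o l (2 ^ z)) a = true → el x D.n a ∈ X := by
    intro X Y hs hc hi z hz
    have k1 : res S ≤ Subgroup.normalizer (X : Set G) := by
      rw [← hs]
      refine sup_le Subgroup.le_normalizer fun v hv => Subgroup.centralizer_le_normalizer _ ?_
      exact Subgroup.mem_centralizer_iff.2 fun u hu => hc u hu v hv
    refine dn_mem H (fun b hb k u hu => (Subgroup.mem_normalizer_iff.1 (k1 (hres b hb k)) u).1 hu) (fun q hq k => ?_) l _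
      fun a ha => ?_
    · obtain ⟨g, d, k2, k3, k4⟩ := ho q hq
      rw [← k3.conj]
      refine hi g _ k2 (H.el_mem' _) ?_ ?_ k
      · rw [k3.conj]
        exact H.el_mem' _
      · rw [k3.conj, k4.conj]
        exact H.el_mem' _
    · rw [tb_eq, Nat.testBit_two_pow, decide_eq_true_eq] at ha
      rwa [← ha]
  have kf : ∀ X Y : Subgroup G, X ⊓ Y = ⊥ → (∀ u ∈ X, ∀ v ∈ Y, u * v = v * u) → ∀ z ∈ zl, ∀ w ∈ zl, z < w →
      (∀ a, tb (dn D K o l (2 ^ z)) a = true → el x D.n a ∈ X) →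
      (∀ a, tb (dn D K o l (2 ^ w)) a = true → el x D.n a ∈ Y) → False := by
    intro X Y hi hc z hz w hw hzw k1 k2
    have k3 := h3 z hz w hw
    simp only [Bool.or_eq_true, force_eq, List.any_eq_true, Bool.and_eq_true] at k3
    rcases k3 with k3 | ⟨p, -, ⟨⟨⟨k4, k5⟩, k6⟩, k7⟩, k8 | ⟨k8, k9⟩⟩
    · exact absurd (Nat.le_of_ble_eq_true k3) (by omega)
    · refine nbeq_ne k8 (H.inj (D.mul_lt (blt_lt k6) _) (D.mul_lt (blt_lt k7) _) ?_)
      rw [← H.mul (blt_lt k6), ← H.mul (blt_lt k7)]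
      exact hc _ (k1 _ k4) _ (k2 _ k5)
    · refine nbeq_ne k9 (H.eq_zero (blt_lt k6) ?_)
      rw [← Subgroup.mem_bot, ← hi]
      exact ⟨k1 _ k4, by rw [beq_eq k8]; exact k2 _ k5⟩
  intro X Y hX hY hi hs hc ho'
  have hc' : ∀ u ∈ Y, ∀ v ∈ X, u * v = v * u := fun u hu v hv => (hc v hv u hu).symm
  obtain ⟨z, hz, z1, z2⟩ := kz X Y hX hs hc
  obtain ⟨w, hw, w1, -⟩ := kz Y X hY (by rw [sup_comm, hs]) hc'
  have dX := kd X Y hs hc (fun g u a b c d => (ho' g u a b c d).1) z z1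
  have dY := kd Y X (by rw [sup_comm, hs]) hc' (fun g u a b c d => (ho' g u a b c d).2) w w1
  rcases lt_trichotomy z w with k | k | k
  · exact kf X Y hi hc z hz w hw k dX dY
  · subst k
    exact z2 (by rw [← Subgroup.mem_bot, ← hi]; exact ⟨z1, w1⟩)
  · exact kf Y X (by rw [inf_comm, hi]) hc' w hw z hz k dY dX

/-- **`Base` from facts on the group.** -/
theorem base_of [Finite G] (H : Gen D S x) (N : Subgroup G) [N.Normal] (hs : N ⊔ S = ⊤) {e K : ℕ}
    (he : ¬ 2 ^ (e + 1) ∣ Nat.card N) (hc : cnt K D.N = 2 ^ e) (hK : ∀ a, tb K a = true → el x D.n a ∈ pResidual 2 G)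
    (hz : ∀ z ∈ D.zl, ∀ Q : Subgroup G,
      (∀ a b, el x D.n a ∈ Q → IsConj (el x D.n a) (el x D.n b) → el x D.n b ∈ Q) → el x D.n z ∈ Q →
      ∃ a b, a < D.N ∧ b < D.N ∧ el x D.n a ∈ Q ∧ el x D.n b ∈ Q ∧ D.mul a b ≠ D.mul b a)
    {g0 zl : List ℕ} {o : List (ℕ × ℕ)} {l : List (ℕ × ℕ × ℕ)} {e' : List (ℕ × ℕ)} (ho : ∀ q ∈ o, Od3 D x q)
    (hn : ndc D K g0 zl o l e' = true) : Base D G x K := by
  obtain ⟨⟨T, rfl⟩, h1, -⟩ := hk_of H N hs he hc hK
  exact ⟨inferInstance, ⟨T, H, core_of H hz, ndg_of H h1 ho hn⟩, h1⟩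

end

/-! ### the mode -/

/-- signs -/
def sg (b : Bool) : ℤˣ := bif b then -1 else 1

theorem sg_xor (a b : Bool) : sg (xor a b) = sg a * sg b := by cases a <;> cases b <;> rfl

theorem sg_inj {a b : Bool} (h : sg a = sg b) : a = b := by
  revert h
  cases a <;> cases b <;> decide

theorem el_sg (lam a : ℕ) : ∀ n, el (fun i => sg (tb lam i)) n a = sg (Pc.par n (a &&& lam))
  | 0 => rfl
  | n + 1 => by
    rw [el_succ, el_sg lam a n, show Pc.par (n + 1) (a &&& lam) = xor ((a &&& lam).testBit n) (Pc.par n (a &&& lam))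
      from rfl, sg_xor, Nat.testBit_and, ← tb_eq, ← tb_eq, mul_comm]
    cases tb a n
    · exact (one_mul _).symm
    · rw [cond_true, Bool.true_and, mul_comm]

/-- check: the parity is a homomorphism which is trivial on `K`; for `lam = 0` the generators lie in `K` -/
noncomputable def lamOk (D : PcD) (lam K : ℕ) : Bool :=
  bif Nat.beq lam 0 then allB D.n fun i => tb K (2 ^ i) else
    (allB D.n fun i => !Pc.par D.n (D.rel i i &&& lam)) &&
    (allB D.n fun j => allB j fun i => !xor (Pc.par D.n (D.rel j i &&& lam)) (tb lam j)) &&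
    allB (2 ^ D.n) fun a => !tb K a || !Pc.par D.n (a &&& lam)

section

variable {G : Type} [Group G] {D : PcD} {x : ℕ → G}

theorem modeG_of [Finite G] {T : Sylow 2 G} (H : Gen D T x) {K lam : ℕ} (hK : HK D x K) (h : lamOk D lam K = true) :
    ModeG D x lam := by
  have : Fact (Nat.Prime 2) := ⟨Nat.prime_two⟩
  unfold lamOk at h
  refine ⟨fun k i hi => ?_, fun k g a b ha hb hg => ?_⟩
  · rw [k, Nat.beq_refl, cond_true] at h
    rw [← el_two_pow x _ hi]
    exact (hK _ (D.two_pow_lt hi)).2 (allB_spec h hi)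
  have k0 : Nat.beq lam 0 = false := by
    cases k1 : Nat.beq lam 0
    · rfl
    · exact absurd (beq_eq k1) k
  rw [k0, cond_false] at h
  simp only [Bool.and_eq_true] at h
  obtain ⟨⟨h1, h2⟩, h3⟩ := h
  have hR : Rel D fun i => sg (tb lam i) := by
    refine ⟨fun i hi => ?_, fun i j hij hj => ?_⟩
    · have k1 := allB_spec h1 hi
      rw [Bool.not_eq_true'] at k1
      rw [el_sg, k1, Int.units_mul_self]
      rfl
    · have k1 := allB_spec (allB_spec h2 hj) hij
      rw [el_sg, mul_comm]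
      revert k1
      cases Pc.par D.n (D.rel j i &&& lam) <;> cases tb lam j <;> simp
  have := Transfer.Residual.pResidual_normal (p := 2) (G := G)
  have hg' : g ∈ (pResidual 2 G : Set G) * ((T : Subgroup G) : Set G) := by
    rw [← Subgroup.normal_mul, Transfer.Residual.pResidual_sup_sylow]
    exact Subgroup.mem_top g
  obtain ⟨r, hr, s, hs, rfl⟩ := hg'
  obtain ⟨c, hc, rfl⟩ := (H.mem s).1 hs
  have k1 : el x D.n (D.div b (D.cj c a)) ∈ pResidual 2 G := by
    rw [← H.div hb, ← H.cj hc, ← hg.conj]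
    have k2 := Subgroup.mul_mem _ hr (this.conj_mem _ (Subgroup.inv_mem _ hr) (el x D.n c * el x D.n a * (el x D.n c)⁻¹))
    convert k2 using 1
    group
  have k2 := allB_spec h3 (D.div_lt hb (D.cj c a))
  rw [(hK _ (D.div_lt hb _)).1 k1, Bool.not_true, Bool.false_or, Bool.not_eq_true'] at k2
  have k3 := hR.div_sound H.ok hb (D.cj c a)
  rw [← hR.cj_sound H.ok hc, mul_inv_cancel_comm, el_sg, el_sg, el_sg, k2, mul_inv_eq_iff_eq_mul] at k3
  exact sg_inj (k3.trans (one_mul _)).symm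

theorem Base.rz2' {K lam tag : ℕ} (h : Base D G x K) (hl : lamOk D lam K = true)
    (h1 : tag = 1 → ∀ S, Gen D S x → TopG S) (h2 : tag = 2 → ∀ S, Gen D S x → R34G S) : Rz2 ⟨D, lam, tag⟩ G x := by
  obtain ⟨_, ⟨T, H, k1, k2⟩, k3⟩ := h
  exact ⟨inferInstance, ⟨T, H, k1, k2, fun k => h1 k _ H, fun k => h2 k _ H⟩, modeG_of H k3 hl⟩

theorem Base.rz2 {K lam : ℕ} (h : Base D G x K) (hl : lamOk D lam K = true) : Rz2 ⟨D, lam, 0⟩ G x :=
  h.rz2' hl (fun k => by cases k) fun k => by cases k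

end

end Cfsg.Agent.FS.N.M
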