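import Cfsg.Agent.FS.N.M.Cert

/-!
# `Base` from a computable model; the group `N S` in an ambient group; change of the presentation (helper44, project FS/N)
-/

set_option autoImplicit false

namespace Cfsg.Agent.FS.N.M

open Cfsg Cfsg.FusionSystem Cfsg.Agent.FS.Th Cfsg.Agent.FS.Real

section sub

variable {G : Type} [Group G]

/-- The model of a subgroup. -/
noncomputable def msub (M : Mdl G) (H : Subgroup G) (ok : ℕ → ℕ → Bool)
    (hok : ∀ a w, ok a w = true → ∃ g ∈ H, M.R a g) : Mdl H where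
  R c g := M.R c g
  mul := M.mul
  one := M.one
  eqv := M.eqv
  neq := M.neq
  ok := ok
  R_one := M.R_one
  R_mul := fun ha hb => M.R_mul ha hb
  eq_of := fun ha hb he => Subtype.ext (M.eq_of ha hb he)
  ne_of := fun ha hb he h => M.ne_of ha hb he (congrArg Subtype.val h)
  ex_of := fun h => by
    obtain ⟨g, hg, k⟩ := hok _ _ h
    exact ⟨⟨g, hg⟩, k⟩

/-- the group generated by `N` and the `x i`, `i < n` -/
def ext (N : Subgroup G) (n : ℕ) (x : ℕ → G) : Subgroup G := N ⊔ Subgroup.closure {g | ∃ i, i < n ∧ x i = g}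

/-- the generators in `ext N n x` -/
def extX (N : Subgroup G) (n : ℕ) (x : ℕ → G) (i : ℕ) : ext N n x :=
  if h : i < n then ⟨x i, Subgroup.mem_sup_right (Subgroup.subset_closure ⟨i, h, rfl⟩)⟩ else 1

theorem extX_val (N : Subgroup G) {n : ℕ} (x : ℕ → G) {i : ℕ} (h : i < n) : (extX N n x i : G) = x i := by
  unfold extX
  rw [dif_pos h]

/-- `N` in `ext N n x` -/
def extN (N : Subgroup G) (n : ℕ) (x : ℕ → G) : Subgroup (ext N n x) := N.subgroupOf (ext N n x)

theorem extN_normal {N : Subgroup G} {n : ℕ} {x : ℕ → G} (h : ∀ i, i < n → x i ∈ Subgroup.normalizer (N : Set G)) :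
    (extN N n x).Normal := by
  refine (Subgroup.normal_subgroupOf_iff_le_normalizer le_sup_left).2 (sup_le Subgroup.le_normalizer ?_)
  rw [Subgroup.closure_le]
  rintro _ ⟨i, hi, rfl⟩
  exact h i hi

theorem card_extN (N : Subgroup G) (n : ℕ) (x : ℕ → G) : Nat.card (extN N n x) = Nat.card N :=
  Nat.card_congr (Subgroup.subgroupOfEquivOfLe le_sup_left).toEquiv

theorem extN_sup {N : Subgroup G} {n : ℕ} {x : ℕ → G} {S : Subgroup (ext N n x)} (h : ∀ i, i < n → extX N n x i ∈ S) :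
    extN N n x ⊔ S = ⊤ := by
  refine Subgroup.map_injective (ext N n x).subtype_injective ?_
  rw [← MonoidHom.range_eq_map, Subgroup.range_subtype, Subgroup.map_sup]
  refine le_antisymm (sup_le (Subgroup.map_subtype_le _) (Subgroup.map_subtype_le _)) (sup_le_sup ?_ ?_)
  · intro g hg
    exact ⟨⟨g, Subgroup.mem_sup_left hg⟩, hg, rfl⟩
  · rw [Subgroup.closure_le]
    rintro _ ⟨i, hi, rfl⟩
    exact ⟨_, h i hi, extX_val N x hi⟩

/-- The model of `ext N n x`; `ok` certifies elements of `N`. -/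
noncomputable def mext (M : Mdl G) (N : Subgroup G) (ok : ℕ → ℕ → Bool) (hok : ∀ a w, ok a w = true → ∃ g ∈ N, M.R a g)
    (n : ℕ) (x : ℕ → G) : Mdl (ext N n x) :=
  msub M _ ok fun a w h => by
    obtain ⟨g, hg, k⟩ := hok a w h
    exact ⟨g, Subgroup.mem_sup_left hg, k⟩

theorem rx_ext {M : Mdl G} {N : Subgroup G} {ok : ℕ → ℕ → Bool} (hok : ∀ a w, ok a w = true → ∃ g ∈ N, M.R a g)
    {D : PcD} {X : ℕ → ℕ} {x : ℕ → G} (hx : M.RX D X x) : (mext M N ok hok D.n x).RX D X (extX N D.n x) := by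
  intro i hi
  show M.R (X i) (extX N D.n x i : G)
  rw [extX_val N x hi]
  exact hx i hi

end sub

section chk

variable {G : Type} [Group G] (M : Mdl G)

/-- check: elements of order three; an entry is `(a, b, d, c)` -/
noncomputable def odd3 (D : PcD) (X : ℕ → ℕ) (l : List (ℕ × ℕ × ℕ × ℕ)) : Bool :=
  l.all fun p => M.ok p.2.2.2 0 && M.eqv (M.mul (M.mul p.2.2.2 p.2.2.2) p.2.2.2) M.one &&
    M.act D X p.2.2.2 p.1 p.2.1 && M.act D X p.2.2.2 p.2.1 p.2.2.1

/-- check: an element of odd order which normalizes `S`; `B` packs the images of the generators -/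
noncomputable def topc (D : PcD) (X : ℕ → ℕ) (c k B i : ℕ) : Bool :=
  M.ok c 0 && Nat.beq (k % 2) 1 && M.eqv (M.pw c k) M.one && (allB D.n fun i => M.act D X c (2 ^ i) (get D.n B i)) &&
    Nat.blt i D.n && !Nat.beq (get D.n B i) (2 ^ i)

/-- check: the mask `K` is spanned by `g0`, and `g0` is generated by the seeds -/
noncomputable def spanc (D : PcD) (s : List ℕ) (l : List (ℕ × ℕ)) (g0 : List ℕ) (K e : ℕ) : Bool :=
  (force (D.close l (seedM s)) fun C => g0.all fun g => tb C g) && Nat.beq (span D g0) K &&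
    Nat.beq (cnt K (2 ^ D.n)) (2 ^ e)

variable {M} {D : PcD} {X : ℕ → ℕ} {x : ℕ → G}

theorem od3_of (hx : M.RX D X x) {l : List (ℕ × ℕ × ℕ × ℕ)} (h : odd3 M D X l = true) :
    ∀ q ∈ l.map fun p => (p.1, p.2.1), Od3 D x q := by
  intro q hq
  obtain ⟨p, hp, rfl⟩ := List.mem_map.1 hq
  have h1 := List.all_eq_true.1 h p hp
  simp only [Bool.and_eq_true] at h1
  obtain ⟨⟨⟨h2, h3⟩, h4⟩, h5⟩ := h1
  obtain ⟨g, hg⟩ := M.ex_of h2
  exact ⟨g, p.2.2.1, M.eq_of (M.R_mul (M.R_mul hg hg) hg) M.R_one h3, hx.act hg h4, hx.act hg h5⟩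

theorem top_of (hx : M.RX D X x) {c k B i : ℕ} (h : topc M D X c k B i = true) (S : Subgroup G) (H : Gen D S x) :
    TopG S := by
  unfold topc at h
  simp only [Bool.and_eq_true] at h
  obtain ⟨⟨⟨⟨⟨h1, h2⟩, h3⟩, h4⟩, h5⟩, h6⟩ := h
  obtain ⟨g, hg⟩ := M.ex_of h1
  have k1 : ∀ j, j < D.n → g * x j * g⁻¹ = el x D.n (get D.n B j) := fun j hj => by
    rw [← el_two_pow x _ hj]
    exact (hx.act hg (allB_spec h4 hj)).conj
  refine ⟨g, k, Nat.odd_iff.2 (beq_eq h2), M.eq_of (Mdl.R_pw hg k) M.R_one h3, fun s hs => ?_, x i,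
    H.x_mem (blt_lt h5), fun k2 => nbeq_ne h6 (H.inj (get_lt _ _ _) (D.two_pow_lt (blt_lt h5)) ?_)⟩
  · exact H.le_of (A := S.comap (MulAut.conj g).toMonoidHom) (fun j hj => by
      show g * x j * g⁻¹ ∈ S
      rw [k1 j hj]
      exact H.el_mem' _) hs
  · rw [← k1 i (blt_lt h5), k2, el_two_pow x _ (blt_lt h5)]

theorem core_der (hx : M.RX D X x) {S : Subgroup G} (H : Gen D S x) {lc : List (ℕ × ℕ × ℕ)} {e : List (ℕ × ℕ)}
    (h2 : M.cores' D X lc e = true) : ∀ z ∈ D.zl, ∀ Q : Subgroup G,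
      (∀ a b, el x D.n a ∈ Q → IsConj (el x D.n a) (el x D.n b) → el x D.n b ∈ Q) → el x D.n z ∈ Q →
      ∃ a b, a < D.N ∧ b < D.N ∧ el x D.n a ∈ Q ∧ el x D.n b ∈ Q ∧ D.mul a b ≠ D.mul b a := by
  intro z hz Q hQ hzQ
  unfold Mdl.cores' at h2
  have h5 := List.all_eq_true.1 h2 z hz
  simp only [force_eq, List.any_eq_true, Bool.and_eq_true] at h5
  obtain ⟨p, -, ⟨⟨⟨h6, h7⟩, h8⟩, h9⟩, h10⟩ := h5
  have h11 := hx.der H hQ lc (2 ^ z) fun a ha => by
    rw [tb_eq, Nat.testBit_two_pow, decide_eq_true_eq] at ha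
    rw [← ha]
    exact hzQ
  exact ⟨p.1, p.2, blt_lt h8, blt_lt h9, h11 _ h6, h11 _ h7, nbeq_ne h10⟩

theorem span_of {S : Subgroup G} (H : Gen D S x) {s : List ℕ} {l : List (ℕ × ℕ)} {g0 : List ℕ} {K e : ℕ}
    (h : spanc D s l g0 K e = true) {Q : Subgroup G} (hs : ∀ a ∈ s, el x D.n a ∈ Q) :
    cnt K D.N = 2 ^ e ∧ ∀ a, tb K a = true → el x D.n a ∈ Q := by
  unfold spanc at h
  simp only [Bool.and_eq_true, force_eq, List.all_eq_true] at h
  refine ⟨beq_eq h.2, ?_⟩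
  rw [← beq_eq h.1.2]
  exact span_mem H g0 fun g hg => H.close l _ (fun a ha => hs a (seedM_spec ha)) _ (h.1.1 g hg)

/-- all certificates of a model -/
structure Ct where
  lc : List (ℕ × ℕ × ℕ)
  ec : List (ℕ × ℕ)
  lr : List ResC
  ls : List (ℕ × ℕ)
  g0 : List ℕ
  K : ℕ
  e : ℕ
  zl : List ℕ
  o : List (ℕ × ℕ × ℕ × ℕ)
  ln : List (ℕ × ℕ × ℕ)
  en : List (ℕ × ℕ)

/-- the checks in the model -/
noncomputable def Ct.chkM (c : Ct) (M : Mdl G) (D : PcD) (X : ℕ → ℕ) : Bool :=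
  M.cores' D X c.lc c.ec && M.ress D X c.lr && odd3 M D X c.o

/-- the checks in the table -/
noncomputable def Ct.chkD (c : Ct) (D : PcD) : Bool :=
  spanc D (c.lr.map ResC.a) c.ls c.g0 c.K c.e && ndc D c.K c.g0 c.zl (c.o.map fun p => (p.1, p.2.1)) c.ln c.en

/-- **`Base` from certificates.** -/
theorem base_ct [Finite G] (hx : M.RX D X x) (hD : D.Ok) (N : Subgroup G) [N.Normal]
    (hs : ∀ S : Subgroup G, (∀ i, i < D.n → x i ∈ S) → N ⊔ S = ⊤) (c : Ct) (he : ¬ 2 ^ (c.e + 1) ∣ Nat.card N)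
    (h1 : M.rels D X = true) (h2 : c.chkM M D X = true) (h3 : c.chkD D = true) :
    Base D G x c.K ∧ Nat.card G * 2 ^ c.e = Nat.card N * 2 ^ D.n := by
  obtain ⟨S, H⟩ := hx.gen hD h1
  unfold Ct.chkM at h2
  unfold Ct.chkD at h3
  simp only [Bool.and_eq_true] at h2 h3
  obtain ⟨k1, k2⟩ := span_of H h3.1 (hx.ress h2.1.2)
  exact ⟨base_of H N (hs S fun i hi => H.x_mem hi) he k1 k2 (core_der hx H h2.1.1) (od3_of hx h2.2) h3.2,
    (hk_of H N (hs S fun i hi => H.x_mem hi) he k1 k2).2.2.2⟩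

/-- The perfect case, or any group with known order and `N = ⊤`. -/
theorem base_top [Finite G] (hx : M.RX D X x) (hD : D.Ok) (c : Ct) (he : ¬ 2 ^ (c.e + 1) ∣ Nat.card G)
    (h1 : M.rels D X = true) (h2 : c.chkM M D X = true) (h3 : c.chkD D = true) : Base D G x c.K :=
  (base_ct hx hD ⊤ (fun _ _ => top_sup_eq _) c (by rwa [Subgroup.card_top]) h1 h2 h3).1

/-- **The group `N S` inside an ambient group.** -/
theorem base_ext [Finite G] {N : Subgroup G} {ok : ℕ → ℕ → Bool} (hok : ∀ a w, ok a w = true → ∃ g ∈ N, M.R a g)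
    (hx : M.RX D X x) (hD : D.Ok) (hN : ∀ i, i < D.n → x i ∈ Subgroup.normalizer (N : Set G)) (c : Ct)
    (he : ¬ 2 ^ (c.e + 1) ∣ Nat.card N) (h1 : M.rels D X = true) (h2 : c.chkM (mext M N ok hok D.n x) D X = true)
    (h3 : c.chkD D = true) :
    Base D (ext N D.n x) (extX N D.n x) c.K ∧ Nat.card (ext N D.n x) * 2 ^ c.e = Nat.card N * 2 ^ D.n := by
  have := extN_normal hN
  have h := base_ct (rx_ext hok hx) hD (extN N D.n x) (fun _ h => extN_sup h) c (by rwa [card_extN]) h1 h2 h3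
  rwa [card_extN] at h

/-- check: the mask in new generators -/
noncomputable def chgK (D E : PcD) (W K K' : ℕ) : Bool :=
  D.chg E W && allB (2 ^ E.n) fun a => !xor (tb K' a) (tb K (D.img (get D.n W) E.n a))

/-- Change of the presentation. -/
theorem Base.change {K : ℕ} (h : Base D G x K) {E : PcD} (hE : E.Ok) {W K' : ℕ} (hc : chgK D E W K K' = true) :
    Base E G (fun i => el x D.n (get D.n W i)) K' := by
  obtain ⟨_, ⟨T, H, h1, h2⟩, h3⟩ := h
  unfold chgK at hc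
  rw [Bool.and_eq_true] at hc
  refine ⟨inferInstance, ⟨T, H.change hE hc.1, h1, h2⟩, fun a ha => ?_⟩
  rw [H.el_img, h3 _ (D.img_lt _ _ _)]
  have k := allB_spec hc.2 ha
  revert k
  cases tb K' a <;> cases tb K (D.img (get D.n W) E.n a) <;> simp

end chk

end Cfsg.Agent.FS.N.M
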