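import Cfsg.Agent.FS.N.M.Fld
import Cfsg.Agent.FS.N.M.MdX

/-!
# Semilinear and graph automorphisms: a model of `MulAut (GL ι F)` (helper44, project FS/N)

A code is `g + 2 ^ W * (g⁻¹ + 2 ^ W * (ε + 2 * j))`, it stands for `conj g * φ ^ j * τ ^ ε`.
-/

set_option autoImplicit false

namespace Cfsg.Agent.FS.N.M

open Matrix Cfsg.Agent.FS.Real

section

variable (A : FF) {ι : Type} [Fintype ι] [DecidableEq ι]

/-- the field automorphism -/
noncomputable def phi : MulAut (GL ι A.F) := Units.mapEquiv (A.fr.mapMatrix (m := ι)).toMulEquiv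

theorem phi_val (g : GL ι A.F) : (phi A g : Matrix ι ι A.F) = (g : Matrix ι ι A.F).map A.fr := rfl

/-- inverse transpose -/
def tauF (g : GL ι A.F) : GL ι A.F :=
  ⟨((g⁻¹ : GL ι A.F) : Matrix ι ι A.F)ᵀ, (g : Matrix ι ι A.F)ᵀ, by
    rw [← transpose_mul, Units.mul_inv, transpose_one], by rw [← transpose_mul, Units.inv_mul, transpose_one]⟩

theorem tauF_tauF (g : GL ι A.F) : tauF A (tauF A g) = g := Units.ext (transpose_transpose _)

/-- the graph automorphism -/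
def tau : MulAut (GL ι A.F) where
  toFun := tauF A
  invFun := tauF A
  left_inv := tauF_tauF A
  right_inv := tauF_tauF A
  map_mul' g h := Units.ext (by
    show (((g * h)⁻¹ : GL ι A.F) : Matrix ι ι A.F)ᵀ = _ * _
    rw [_root_.mul_inv_rev, Units.val_mul, transpose_mul]
    rfl)

theorem tau_val (g : GL ι A.F) : (tau A g : Matrix ι ι A.F) = ((g⁻¹ : GL ι A.F) : Matrix ι ι A.F)ᵀ := rfl

theorem tau_sq : tau A (ι := ι) * tau A = 1 := MulEquiv.ext (tauF_tauF A)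

theorem phi_tau : Commute (phi A (ι := ι)) (tau A) := MulEquiv.ext fun g => Units.ext (by
  show (phi A (tau A g) : Matrix ι ι A.F) = (tau A (phi A g) : GL ι A.F)
  rw [phi_val, tau_val, tau_val, ← map_inv, phi_val, transpose_map])

theorem phi_pow_val (g : GL ι A.F) : ∀ j : ℕ, ((phi A ^ j) g : Matrix ι ι A.F) = (g : Matrix ι ι A.F).map A.fr^[j]
  | 0 => rfl
  | j + 1 => by
    rw [pow_succ', MulAut.mul_apply, phi_val, phi_pow_val g j, Function.iterate_succ', Matrix.map_map]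

theorem phi_pow : phi A (ι := ι) ^ A.k = 1 := MulEquiv.ext fun g => Units.ext (by
  rw [phi_pow_val]
  ext i j
  rw [Matrix.map_apply, A.fr_iter, ← A.card, FiniteField.pow_card]
  rfl)

theorem pow_mod_of {G : Type*} [Group G] {a : G} {k : ℕ} (h : a ^ k = 1) (m : ℕ) : a ^ (m % k) = a ^ m := by
  conv_rhs => rw [← Nat.mod_add_div m k, pow_add, pow_mul, h, one_pow, mul_one]

theorem conj_mul_aut {G : Type*} [Group G] (α : MulAut G) (g : G) : α * MulAut.conj g = MulAut.conj (α g) * α :=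
  MulEquiv.ext fun h => by simp

variable {n : ℕ} (e : ι ≃ Fin n)

/-- width of a matrix -/
def FF.W (n : ℕ) : ℕ := A.K.w * (n * n)

/-- the Frobenius map on the entries -/
noncomputable def mfr (n a : ℕ) : ℕ := force a fun a => A.K.mk' n fun i j => pwr A.K (A.K.ent n a i j) A.p

theorem toM_mfr (a : ℕ) : A.K.toM e (mfr A n a) = (A.K.toM e a).map A.fr := by
  ext i j
  unfold mfr
  rw [force_eq, RM.toM_mk', val_pwr]
  rfl

/-- iterates -/
noncomputable def mfi (n j a : ℕ) : ℕ := Nat.rec a (fun _ r => mfr A n r) j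

theorem toM_mfi (a : ℕ) : ∀ j, A.K.toM e (mfi A n j a) = (A.K.toM e a).map A.fr^[j]
  | 0 => rfl
  | j + 1 => by
    rw [show mfi A n (j + 1) a = mfr A n (mfi A n j a) from rfl, toM_mfr, toM_mfi a j, Function.iterate_succ',
      Matrix.map_map]

/-- the matrix -/
def c0 (n c : ℕ) : ℕ := c % 2 ^ A.W n
/-- the inverse -/
def c1 (n c : ℕ) : ℕ := (c >>> A.W n) % 2 ^ A.W n
/-- the outer part -/
def c2 (n c : ℕ) : ℕ := (c >>> A.W n) >>> A.W n

/-- `g` and its inverse have the codes `a`, `b` -/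
def RG (a b : ℕ) (g : GL ι A.F) : Prop :=
  (g : Matrix ι ι A.F) = A.K.toM e a ∧ ((g⁻¹ : GL ι A.F) : Matrix ι ι A.F) = A.K.toM e b

/-- the automorphism with the code `o` -/
noncomputable def sig (o : ℕ) : MulAut (GL ι A.F) := phi A ^ (o / 2) * tau A ^ (o % 2)

/-- the code of `sig o g` -/
noncomputable def sg0 (n o a b : ℕ) : ℕ := mfi A n (o / 2) (bif Nat.beq (o % 2) 0 then a else A.K.mtr n b)

variable {A e}

theorem RG.inv {a b : ℕ} {g : GL ι A.F} (h : RG A e a b g) : RG A e b a g⁻¹ := ⟨h.2, by rw [inv_inv]; exact h.1⟩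

theorem RG.sg0 {a b : ℕ} {g : GL ι A.F} (h : RG A e a b g) (o : ℕ) :
    (sig A o g : Matrix ι ι A.F) = A.K.toM e (sg0 A n o a b) := by
  unfold M.sg0 sig
  rw [toM_mfi, MulAut.mul_apply, phi_pow_val]
  rcases Nat.mod_two_eq_zero_or_one o with h1 | h1 <;> rw [h1]
  · rw [pow_zero, MulAut.one_apply, h.1]
    rfl
  · rw [pow_one, tau_val, h.2, ← RM.toM_mtr]
    rfl

theorem RG.sig {a b : ℕ} {g : GL ι A.F} (h : RG A e a b g) (o : ℕ) :
    RG A e (M.sg0 A n o a b) (M.sg0 A n o b a) (sig A o g) := ⟨h.sg0 o, by rw [← map_inv]; exact h.inv.sg0 o⟩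

theorem RG.mul {a b c d : ℕ} {g k : GL ι A.F} (h : RG A e a b g) (h' : RG A e c d k) :
    RG A e (A.K.mmul n a c) (A.K.mmul n d b) (g * k) :=
  ⟨by rw [RM.toM_mmul, ← h.1, ← h'.1, Units.val_mul], by
    rw [RM.toM_mmul, ← h.2, ← h'.2, _root_.mul_inv_rev, Units.val_mul]⟩

theorem exists_RG {a b : ℕ} (h : Nat.beq (A.K.mmul n a b) (A.K.msc n 1) = true) : ∃ g, RG A e a b g := by
  have h1 : A.K.toM e a * A.K.toM e b = 1 := by rw [← RM.toM_mmul, beq_eq h, RM.toM_one]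
  exact ⟨⟨A.K.toM e a, A.K.toM e b, h1, mul_eq_one_comm.1 h1⟩, rfl, rfl⟩

variable (A)

/-- sum of the outer parts -/
def oadd (o o' : ℕ) : ℕ := (o % 2 + o' % 2) % 2 + 2 * ((o / 2 + o' / 2) % A.k)

theorem sig_oadd (o o' : ℕ) : sig A (ι := ι) (oadd A o o') = sig A o * sig A o' := by
  unfold sig oadd
  rw [Nat.add_mul_div_left _ _ (by norm_num : 0 < 2), Nat.div_eq_of_lt (Nat.mod_lt _ (by norm_num)), Nat.zero_add,
    Nat.add_mul_mod_self_left, Nat.mod_mod, pow_mod_of (phi_pow A), pow_mod_of (show tau A ^ 2 = 1 by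
      rw [pow_two, tau_sq]), pow_add, pow_add, mul_assoc, mul_assoc, ← mul_assoc (tau A ^ (o % 2)),
    ← ((phi_tau A).pow_pow (o' / 2) (o % 2)).eq, mul_assoc]

theorem sig_zero : sig A (ι := ι) 0 = 1 := by
  unfold sig
  rw [Nat.zero_div, Nat.zero_mod, pow_zero, pow_zero, one_mul]

/-- packing -/
def pk3 (n a b o : ℕ) : ℕ := a + 2 ^ A.W n * (b + 2 ^ A.W n * o)

variable {A}

theorem c0_pk3 {a : ℕ} (ha : a < 2 ^ A.W n) (b o : ℕ) : c0 A n (pk3 A n a b o) = a := Mdl.pair_mod ha _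

theorem c1_pk3 {a b : ℕ} (ha : a < 2 ^ A.W n) (hb : b < 2 ^ A.W n) (o : ℕ) : c1 A n (pk3 A n a b o) = b := by
  unfold c1 pk3
  rw [Mdl.pair_div ha, Mdl.pair_mod hb]

theorem c2_pk3 {a b : ℕ} (ha : a < 2 ^ A.W n) (hb : b < 2 ^ A.W n) (o : ℕ) : c2 A n (pk3 A n a b o) = o := by
  unfold c2 pk3
  rw [Mdl.pair_div ha, Mdl.pair_div hb]

theorem mmul_lt (a b : ℕ) : A.K.mmul n a b < 2 ^ A.W n := by
  unfold RM.mmul
  rw [force_eq, force_eq]
  exact A.K.mk'_lt _ _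

variable (A)

/-- check: `a * b` is a scalar matrix -/
noncomputable def scl (n a b : ℕ) : Bool :=
  force (A.K.mmul n a b) fun P => Nat.beq P (A.K.msc n (A.K.ent n P 0 0))

variable {A}

theorem conj_eq_of_scl {a b c d : ℕ} {g k : GL ι A.F} (h : RG A e a b g) (h' : RG A e c d k) (hs : scl A n a d = true) :
    MulAut.conj g = MulAut.conj k := by
  unfold scl at hs
  rw [force_eq] at hs
  have h1 := (h.mul h'.inv).1
  rw [beq_eq hs, RM.toM_msc] at h1
  have h2 : MulAut.conj (g * k⁻¹) = 1 := MulEquiv.ext fun u => by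
    rw [MulAut.conj_apply, MulAut.one_apply, mul_inv_eq_iff_eq_mul]
    refine Units.ext ?_
    rw [Units.val_mul (g * k⁻¹), Units.val_mul u, h1]
    exact (Matrix.scalar_commute _ (fun _ => Commute.all _ _) _).eq
  rwa [map_mul, map_inv, mul_inv_eq_one] at h2

variable (A e)

/-- **The model.**  `ts` is a list of test elements (pairs of a matrix and its inverse). -/
noncomputable def mAut (ts : List (ℕ × ℕ)) : Mdl (MulAut (GL ι A.F)) where
  R c α := ∃ g, RG A e (c0 A n c) (c1 A n c) g ∧ α = MulAut.conj g * sig A (c2 A n c)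
  mul a b := force a fun a => force b fun b => force (c2 A n a) fun o => force (c0 A n b) fun b0 =>
    force (c1 A n b) fun b1 => pk3 A n (A.K.mmul n (c0 A n a) (sg0 A n o b0 b1))
      (A.K.mmul n (sg0 A n o b1 b0) (c1 A n a)) (oadd A o (c2 A n b))
  one := pk3 A n (A.K.msc n 1) (A.K.msc n 1) 0
  eqv a b := force a fun a => force b fun b => Nat.beq (c2 A n a) (c2 A n b) && scl A n (c0 A n a) (c1 A n b)
  neq a b := force a fun a => force b fun b => Nat.beq (c2 A n b) 0 && scl A n (c0 A n b) (A.K.msc n 1) &&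
    ts.any fun t => Nat.beq (A.K.mmul n t.1 t.2) (A.K.msc n 1) &&
      A.K.mne n (A.K.mmul n (c0 A n a) (sg0 A n (c2 A n a) t.1 t.2)) (A.K.mmul n t.1 (c0 A n a))
  ok a _ := force a fun a => Nat.beq (A.K.mmul n (c0 A n a) (c1 A n a)) (A.K.msc n 1)
  R_one := by
    have h : A.K.msc n 1 < 2 ^ A.W n := A.K.mk'_lt _ _
    rw [c0_pk3 h, c1_pk3 h h, c2_pk3 h h, sig_zero]
    exact ⟨1, ⟨(RM.toM_one _ _).symm, by rw [inv_one]; exact (RM.toM_one _ _).symm⟩, by rw [map_one, one_mul]⟩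
  R_mul := by
    rintro a b _ _ ⟨g, hg, rfl⟩ ⟨k, hk, rfl⟩
    simp only [force_eq]
    rw [c0_pk3 (mmul_lt _ _), c1_pk3 (mmul_lt _ _) (mmul_lt _ _), c2_pk3 (mmul_lt _ _) (mmul_lt _ _), sig_oadd]
    refine ⟨_, hg.mul (hk.sig _), ?_⟩
    rw [map_mul, mul_assoc, mul_assoc, ← mul_assoc (sig A _), conj_mul_aut, mul_assoc]
  eq_of := by
    rintro a b _ _ ⟨g, hg, rfl⟩ ⟨k, hk, rfl⟩ he
    simp only [force_eq, Bool.and_eq_true] at he
    rw [conj_eq_of_scl hg hk he.2, beq_eq he.1]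
  ne_of := by
    rintro a b _ _ ⟨g, hg, rfl⟩ ⟨k, hk, rfl⟩ he h
    simp only [force_eq, Bool.and_eq_true, List.any_eq_true] at he
    obtain ⟨⟨h1, h2⟩, t, -, h3, h4⟩ := he
    have h5 : RG A e (A.K.msc n 1) (A.K.msc n 1) 1 :=
      ⟨(RM.toM_one _ _).symm, by rw [inv_one]; exact (RM.toM_one _ _).symm⟩
    rw [conj_eq_of_scl hk h5 h2, beq_eq h1, sig_zero, map_one, one_mul] at h
    obtain ⟨u, hu⟩ := exists_RG (e := e) h3
    have h6 : g * sig A (c2 A n a) u * g⁻¹ = u := congrArg (fun α : MulAut (GL ι A.F) => α u) h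
    rw [mul_inv_eq_iff_eq_mul] at h6
    refine A.K.toM_ne e h4 ?_
    rw [← (hg.mul (hu.sig _)).1, ← (hu.mul hg).1, h6]
  ex_of := by
    intro a _ h
    rw [force_eq] at h
    obtain ⟨g, hg⟩ := exists_RG (e := e) h
    exact ⟨_, g, hg, rfl⟩

/-- A subgroup `H` of `GL` with tests for `H` and for a group which normalizes it. -/
structure Fam where
  /-- the subgroup -/
  H : Subgroup (GL ι A.F)
  /-- membership -/
  inH : ℕ → ℕ → Bool
  /-- normalizing elements -/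
  nm : ℕ → ℕ → Bool
  /-- the graph automorphism is allowed -/
  gr : Bool
  hin : ∀ {a b g}, RG A e a b g → inH a b = true → g ∈ H
  hnm : ∀ {a b g}, RG A e a b g → nm a b = true → ∀ h ∈ H, g * h * g⁻¹ ∈ H
  hphi : ∀ h ∈ H, phi A h ∈ H
  htau : gr = true → ∀ h ∈ H, tau A h ∈ H

namespace Fam

variable {A e} (Φ : Fam A e)

/-- the inner automorphisms -/
def N : Subgroup (MulAut (GL ι A.F)) := Φ.H.map MulAut.conj

/-- test for `N` -/
noncomputable def okN (c _w : ℕ) : Bool :=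
  force c fun c => force (c0 A n c) fun a => force (c1 A n c) fun b =>
    Nat.beq (c2 A n c) 0 && Nat.beq (A.K.mmul n a b) (A.K.msc n 1) && Φ.inH a b

theorem okN_spec (ts : List (ℕ × ℕ)) (c w : ℕ) (h : Φ.okN c w = true) : ∃ α ∈ Φ.N, (mAut A e ts).R c α := by
  unfold okN at h
  simp only [force_eq, Bool.and_eq_true] at h
  obtain ⟨g, hg⟩ := exists_RG (e := e) h.1.2
  exact ⟨_, ⟨g, Φ.hin hg h.2, rfl⟩, g, hg, by rw [beq_eq h.1.1, sig_zero, mul_one]⟩

/-- check: the generators normalize `N` -/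
noncomputable def nms (X : ℕ → ℕ) (m : ℕ) : Bool :=
  allB m fun i => force (X i) fun c => Φ.nm (c0 A n c) (c1 A n c) && (Φ.gr || Nat.beq (c2 A n c % 2) 0)

theorem mem_normalizer {ts : List (ℕ × ℕ)} {D : PcD} {X : ℕ → ℕ} {x : ℕ → MulAut (GL ι A.F)}
    (hx : (mAut A e ts).RX D X x) (h : Φ.nms X D.n = true) (i : ℕ) (hi : i < D.n) :
    x i ∈ Subgroup.normalizer (Φ.N : Set (MulAut (GL ι A.F))) := by
  obtain ⟨g, hg, h1⟩ := hx i hi
  have h2 := allB_spec h hi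
  simp only [force_eq, Bool.and_eq_true, Bool.or_eq_true] at h2
  refine Subgroup.mem_normalizer_fintype ?_
  rintro _ ⟨u, hu, rfl⟩
  rw [conj_mul_aut, mul_inv_cancel_right]
  refine ⟨_, ?_, rfl⟩
  rw [h1]
  refine Φ.hnm hg h2.1 _ ?_
  have h3 : ∀ j : ℕ, ∀ v ∈ Φ.H, (phi A ^ j) v ∈ Φ.H := by
    intro j
    induction j with
    | zero => exact fun v hv => hv
    | succ j ih => exact fun v hv => by rw [pow_succ']; exact Φ.hphi _ (ih v hv)
  refine h3 _ _ ?_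
  rcases Nat.mod_two_eq_zero_or_one (c2 A n (X i)) with h4 | h4 <;> rw [h4]
  · exact hu
  · rw [h4] at h2
    exact Φ.htau (h2.2.resolve_right (by decide)) _ hu

theorem card_N_dvd : Nat.card Φ.N ∣ Nat.card Φ.H := Subgroup.card_map_dvd _ _

/-- check: the scalar `s` of order `2 ^ (f + 1)` lies in `H` -/
noncomputable def zc (s s' f : ℕ) : Bool :=
  Nat.beq (A.K.mmul n (A.K.msc n s) (A.K.msc n s')) (A.K.msc n 1) && Φ.inH (A.K.msc n s) (A.K.msc n s') &&
    Nat.beq (A.K.nrm (pwr A.K s (2 ^ f))) (A.K.nrm A.K.m1) && !Nat.beq (A.K.nrm A.K.m1) (A.K.nrm 1) && Nat.blt 0 n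

theorem card_N_mul {s s' f : ℕ} (h : Φ.zc s s' f = true) : Nat.card Φ.N * 2 ^ (f + 1) ∣ Nat.card Φ.H := by
  have : Fact (Nat.Prime 2) := ⟨Nat.prime_two⟩
  unfold zc at h
  simp only [Bool.and_eq_true] at h
  obtain ⟨⟨⟨⟨h1, h2⟩, h3⟩, h4⟩, h5⟩ := h
  obtain ⟨g, hg⟩ := exists_RG (e := e) h1
  have h6 : (g : Matrix ι ι A.F) = Matrix.scalar ι (A.K.val s) := by rw [hg.1, RM.toM_msc]
  have h7 : A.K.val s ^ 2 ^ f = -1 := by
    rw [← val_pwr, ← A.K.val_nrm, beq_eq h3, A.K.val_nrm, A.K.val_m1]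
  let ρ : Φ.H →* MulAut (GL ι A.F) := MulAut.conj.comp Φ.H.subtype
  have h8 : (⟨g, Φ.hin hg h2⟩ : Φ.H) ∈ ρ.ker := MulEquiv.ext fun u => by
    show g * u * g⁻¹ = u
    rw [mul_inv_eq_iff_eq_mul]
    refine Units.ext ?_
    rw [Units.val_mul, Units.val_mul, h6]
    exact (Matrix.scalar_commute _ (fun _ => Commute.all _ _) _).eq
  have h9 : orderOf (⟨g, Φ.hin hg h2⟩ : Φ.H) = 2 ^ (f + 1) := by
    refine orderOf_eq_prime_pow (fun k => nbeq_ne h4 (A.K.nrm_eq ?_)) (Subtype.ext (Units.ext ?_))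
    · have k1 : (g : Matrix ι ι A.F) ^ 2 ^ f = 1 := by
        rw [← Units.val_pow_eq_pow_val]
        exact congrArg (fun u : Φ.H => ((u : GL ι A.F) : Matrix ι ι A.F)) k
      rw [h6, ← map_pow, h7] at k1
      have k2 := congrFun (congrFun k1 (e.symm ⟨0, blt_lt h5⟩)) (e.symm ⟨0, blt_lt h5⟩)
      rw [Matrix.scalar_apply, Matrix.diagonal_apply_eq, Matrix.one_apply_eq] at k2
      rw [A.K.val_m1, A.K.val_one, k2]
    · show ((g ^ 2 ^ (f + 1) : GL ι A.F) : Matrix ι ι A.F) = 1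
      rw [Units.val_pow_eq_pow_val, h6, ← map_pow, pow_succ, pow_mul, h7, neg_one_sq, map_one]
  have h10 : Nat.card Φ.N = ρ.ker.index := by
    rw [Subgroup.index_ker, MonoidHom.range_comp, Subgroup.range_subtype]
    rfl
  rw [h10, ← ρ.ker.index_mul_card, ← h9]
  exact Nat.mul_dvd_mul_left _ (Subgroup.orderOf_dvd_natCard _ h8)

/-- the group of the model -/
abbrev Gp (D : PcD) (x : ℕ → MulAut (GL ι A.F)) : Type := ext Φ.N D.n x

/-- its model -/
noncomputable abbrev md (ts : List (ℕ × ℕ)) (D : PcD) (x : ℕ → MulAut (GL ι A.F)) : Mdl (Φ.Gp D x) :=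
  mext (mAut A e ts) Φ.N Φ.okN (Φ.okN_spec ts) D.n x

/-- **The model `N S`.**  `c * 2 ^ f` divides `B` for `c = |N|`. -/
theorem base {ts : List (ℕ × ℕ)} {D : PcD} {X : ℕ → ℕ} {x : ℕ → MulAut (GL ι A.F)} (hx : (mAut A e ts).RX D X x)
    (hD : D.Ok) (c : Ct) {f B : ℕ} (hB : Nat.card Φ.N * 2 ^ f ∣ B) (he : ¬ 2 ^ (c.e + 1) * 2 ^ f ∣ B)
    (h0 : Φ.nms X D.n = true) (h1 : (mAut A e ts).rels D X = true) (h2 : c.chkM (Φ.md ts D x) D X = true)
    (h3 : c.chkD D = true) :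
    Base D (Φ.Gp D x) (extX Φ.N D.n x) c.K ∧ Nat.card (Φ.Gp D x) * 2 ^ c.e = Nat.card Φ.N * 2 ^ D.n :=
  base_ext (Φ.okN_spec ts) hx hD (Φ.mem_normalizer hx h0) c
    (fun k => he ((Nat.mul_dvd_mul_right k _).trans hB)) h1 h2 h3

end Fam

end

end Cfsg.Agent.FS.N.M
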