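import Cfsg.Agent.FS.N.M.Aut
import Cfsg.Agent.FS.Real.MatG2
import Cfsg.Agent.H638.G2Iso
import Cfsg.Agent.S0278

/-!
# The families `SL`, `GL`, `SU`, `Sp`, `G₂` (helper44, project FS/N)
-/

set_option autoImplicit false

namespace Cfsg.Agent.FS.N.M

open Matrix Cfsg.Agent.FS.Real

variable (A : FF)

/-- determinant one -/
def slH (n : ℕ) : Subgroup (GL (Fin n) A.F) := (SpecialLinearGroup.toGL (n := Fin n) (R := A.F)).range

theorem mem_slH {n : ℕ} {g : GL (Fin n) A.F} : g ∈ slH A n ↔ (g : Matrix (Fin n) (Fin n) A.F).det = 1 :=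
  ⟨by
    rintro ⟨h, rfl⟩
    exact h.2, fun h => ⟨⟨g, h⟩, Units.ext rfl⟩⟩

/-- check: determinant one -/
noncomputable def det1 (n a : ℕ) : Bool := force a fun a => Nat.beq (A.K.det n (A.K.ent n a)) 1

theorem det1_spec {n a b : ℕ} {g : GL (Fin n) A.F} (hg : RG A (Equiv.refl _) a b g) (h : det1 A n a = true) :
    g ∈ slH A n := by
  unfold det1 at h
  rw [force_eq] at h
  have h1 := A.K.val_det n (A.K.ent n a)
  rw [beq_eq h, A.K.val_one] at h1
  rw [mem_slH, hg.1]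
  exact h1.symm

theorem slH_conj {n : ℕ} (g : GL (Fin n) A.F) : ∀ h ∈ slH A n, g * h * g⁻¹ ∈ slH A n := fun h hh => by
  rw [mem_slH] at hh ⊢
  rw [Units.val_mul, Units.val_mul, det_mul, det_mul, hh, mul_one, ← det_mul, Units.mul_inv, det_one]

theorem slH_phi {n : ℕ} : ∀ h ∈ slH A n, phi A h ∈ slH A n := fun h hh => by
  rw [mem_slH] at hh ⊢
  have h1 := RingHom.map_det A.fr.toRingHom (h : Matrix (Fin n) (Fin n) A.F)
  rw [hh, map_one] at h1
  exact h1.symm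

theorem slH_tau {n : ℕ} : ∀ h ∈ slH A n, tau A h ∈ slH A n := fun h hh => by
  rw [mem_slH, tau_val, det_transpose]
  exact (mem_slH A).1 ((slH A n).inv_mem hh)

/-- `SL n` -/
noncomputable def famSL (n : ℕ) : Fam A (Equiv.refl (Fin n)) where
  H := slH A n
  inH a _ := det1 A n a
  nm _ _ := true
  gr := true
  hin := fun hg h => det1_spec A hg h
  hnm := fun _ _ => slH_conj A _
  hphi := slH_phi A
  htau := fun _ => slH_tau A

theorem card_famSL (n q B : ℕ) (hn : 1 ≤ n) (hq : A.p ^ A.k = q)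
    (h : ∏ i ∈ Finset.range n, (q ^ n - q ^ i) = (q - 1) * B) : Nat.card (famSL A n).H = B := by
  have h1 := S0242.result (F := A.F) (A.card.trans hq) n hn
  rw [Fin.prod_univ_eq_prod_range (fun i => q ^ n - q ^ i), h] at h1
  have h2 : 1 < q := by
    rw [← hq, ← A.card]
    exact Fintype.one_lt_card
  rw [← Nat.eq_of_mul_eq_mul_left (by omega) h1]
  exact (Nat.card_congr (MonoidHom.ofInjective SpecialLinearGroup.toGL_injective).toEquiv).symm

/-- `GL n` -/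
noncomputable def famGL (n : ℕ) : Fam A (Equiv.refl (Fin n)) where
  H := ⊤
  inH _ _ := true
  nm _ _ := true
  gr := true
  hin := fun _ _ => Subgroup.mem_top _
  hnm := fun _ _ _ _ => Subgroup.mem_top _
  hphi := fun _ _ => Subgroup.mem_top _
  htau := fun _ _ _ => Subgroup.mem_top _

theorem card_famGL (n q B : ℕ) (hq : A.p ^ A.k = q) (h : ∏ i ∈ Finset.range n, (q ^ n - q ^ i) = B) :
    Nat.card (famGL A n).H = B := by
  show Nat.card (⊤ : Subgroup (GL (Fin n) A.F)) = B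
  rw [Subgroup.card_top, Matrix.card_GL_field, A.card, hq, Fin.prod_univ_eq_prod_range (fun i => q ^ n - q ^ i), h]

/-- the fixed points of `φ ^ f * τ` -/
noncomputable def guH (n f : ℕ) : Subgroup (GL (Fin n) A.F) :=
  (sig A (2 * f + 1) : MulAut (GL (Fin n) A.F)).toMonoidHom.eqLocus (MonoidHom.id _)

theorem mem_guH {n f : ℕ} {g : GL (Fin n) A.F} : g ∈ guH A n f ↔ sig A (2 * f + 1) g = g := Iff.rfl

theorem gu_spec {n f a b : ℕ} {g : GL (Fin n) A.F} (hg : RG A (Equiv.refl _) a b g)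
    (h : Nat.beq (sg0 A n (2 * f + 1) a b) a = true) : g ∈ guH A n f :=
  Units.ext (by
    show (sig A (2 * f + 1) g : Matrix (Fin n) (Fin n) A.F) = g
    rw [hg.sg0, beq_eq h, hg.1])

/-- `SU n` over the field with `p ^ (2 f)` elements -/
noncomputable def famSU (n f : ℕ) : Fam A (Equiv.refl (Fin n)) where
  H := slH A n ⊓ guH A n f
  inH a b := det1 A n a && Nat.beq (sg0 A n (2 * f + 1) a b) a
  nm a b := Nat.beq (sg0 A n (2 * f + 1) a b) a
  gr := false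
  hin := fun hg h => by
    rw [Bool.and_eq_true] at h
    exact ⟨det1_spec A hg h.1, gu_spec A hg h.2⟩
  hnm := fun hg h u hu => ⟨slH_conj A _ u hu.1, (guH A n f).mul_mem ((guH A n f).mul_mem (gu_spec A hg h) hu.2)
    ((guH A n f).inv_mem (gu_spec A hg h))⟩
  hphi := fun u hu => ⟨slH_phi A u hu.1, by
    have h1 : Commute (sig A (2 * f + 1) : MulAut (GL (Fin n) A.F)) (phi A) :=
      ((Commute.refl _).pow_left _).mul_left ((phi_tau A).symm.pow_left _)
    have h2 : sig A (2 * f + 1) (phi A u) = phi A (sig A (2 * f + 1) u) :=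
      congrArg (fun α : MulAut (GL (Fin n) A.F) => α u) h1.eq
    exact (mem_guH A).2 (by rw [h2, (mem_guH A).1 hu.2])⟩
  htau := fun h => by cases h

theorem card_famSU (n f q B : ℕ) (hn : 1 ≤ n) (hq : A.p ^ f = q) (hk : A.k = f * 2)
    (h : q ^ (n * (n - 1) / 2) * ∏ i ∈ Finset.range n, (if Even i then q ^ (i + 1) + 1 else q ^ (i + 1) - 1) =
      (q + 1) * B) : Nat.card (famSU A n f).H ∣ B := by
  have h1 := S0278.result (F := A.F) (q := q) (by rw [A.card, hk, pow_mul, hq]) n hn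
  rw [h] at h1
  rw [← Nat.eq_of_mul_eq_mul_left (by omega) h1]
  have h2 : ∀ g : (famSU A n f).H, (⟨(g : GL (Fin n) A.F), (mem_slH A).1 g.2.1⟩ : SpecialLinearGroup (Fin n) A.F) ∈
      Cfsg.SU n A.F q := by
    rintro ⟨g, -, hg⟩ u v
    have k1 : (sig A (2 * f + 1) g : Matrix (Fin n) (Fin n) A.F) = g := congrArg Units.val hg
    unfold sig at k1
    rw [show (2 * f + 1) / 2 = f by omega, show (2 * f + 1) % 2 = 1 by omega, pow_one, MulAut.mul_apply, phi_pow_val,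
      tau_val] at k1
    let σ : A.F →+* A.F := (A.fr ^ f : A.F ≃+* A.F).toRingHom
    have k2 : ∀ a, A.fr^[f] a = σ a := fun a => (congrFun (RingAut.coe_pow A.fr f) a).symm
    have k3 : ∀ a, σ a = a ^ q := fun a => by rw [← k2, A.fr_iter, hq]
    have k4 : ∀ a, σ (σ a) = a := fun a => by
      rw [k3, k3, ← pow_mul, ← pow_two, ← hq, ← pow_mul, ← hk, ← A.card, FiniteField.pow_card]
    have k5 : (g : Matrix (Fin n) (Fin n) A.F).map σ = ((g⁻¹ : GL (Fin n) A.F) : Matrix (Fin n) (Fin n) A.F)ᵀ := by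
      rw [← k1]
      ext i j
      rw [Matrix.map_apply, Matrix.map_apply, k2, k4]
    show ∑ i, ((g : Matrix (Fin n) (Fin n) A.F) *ᵥ u) i * ((g : Matrix (Fin n) (Fin n) A.F) *ᵥ v) i ^ q =
      ∑ i, u i * v i ^ q
    have k6 : ∀ i, ((g : Matrix (Fin n) (Fin n) A.F) *ᵥ v) i ^ q =
        (((g⁻¹ : GL (Fin n) A.F) : Matrix (Fin n) (Fin n) A.F)ᵀ *ᵥ (σ ∘ v)) i := fun i => by
      rw [← k3, ← k5, RingHom.map_mulVec]
    simp only [k6]
    show (g : Matrix (Fin n) (Fin n) A.F) *ᵥ u ⬝ᵥ _ = _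
    rw [dotProduct_comm, Matrix.mulVec_transpose, ← Matrix.dotProduct_mulVec, Matrix.mulVec_mulVec, Units.inv_mul,
      Matrix.one_mulVec, dotProduct_comm]
    exact Finset.sum_congr rfl fun i _ => by rw [← k3]; rfl
  refine Subgroup.card_dvd_of_injective (MonoidHom.mk' (fun g : (famSU A n f).H => (⟨_, h2 g⟩ : Cfsg.SU n A.F q))
    fun _ _ => rfl) fun a b k => Subtype.ext (Units.ext ?_)
  exact congrArg (fun u : Cfsg.SU n A.F q => ((u : SpecialLinearGroup (Fin n) A.F) : Matrix (Fin n) (Fin n) A.F)) k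

/-- the symplectic group -/
def spH (m : ℕ) : Subgroup (GL (Fin m ⊕ Fin m) A.F) where
  carrier := {g | (g : Matrix (Fin m ⊕ Fin m) (Fin m ⊕ Fin m) A.F) ∈ symplecticGroup (Fin m) A.F}
  one_mem' := (symplecticGroup (Fin m) A.F).one_mem
  mul_mem' := fun ha hb => (symplecticGroup (Fin m) A.F).mul_mem ha hb
  inv_mem' := fun {g} hg => by
    have h : (g : Matrix (Fin m ⊕ Fin m) (Fin m ⊕ Fin m) A.F) * J (Fin m) A.F *
        (g : Matrix (Fin m ⊕ Fin m) (Fin m ⊕ Fin m) A.F)ᵀ = J (Fin m) A.F := hg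
    show ((g⁻¹ : GL (Fin m ⊕ Fin m) A.F) : Matrix (Fin m ⊕ Fin m) (Fin m ⊕ Fin m) A.F) * J (Fin m) A.F *
      ((g⁻¹ : GL (Fin m ⊕ Fin m) A.F) : Matrix (Fin m ⊕ Fin m) (Fin m ⊕ Fin m) A.F)ᵀ = J (Fin m) A.F
    conv_lhs => rw [← h]
    rw [← mul_assoc, ← mul_assoc, Units.inv_mul, one_mul, mul_assoc, ← transpose_mul, Units.inv_mul, transpose_one,
      mul_one]

theorem mem_spH {m : ℕ} {g : GL (Fin m ⊕ Fin m) A.F} : g ∈ spH A m ↔
    (g : Matrix (Fin m ⊕ Fin m) (Fin m ⊕ Fin m) A.F) * J (Fin m) A.F *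
      (g : Matrix (Fin m ⊕ Fin m) (Fin m ⊕ Fin m) A.F)ᵀ = J (Fin m) A.F := Iff.rfl

/-- `a J aᵀ` -/
noncomputable def spF (m a : ℕ) : ℕ := A.K.mmul (m + m) (A.K.mmul (m + m) a (A.K.mJ m)) (A.K.mtr (m + m) a)

theorem spF_spec {m a b : ℕ} {g : GL (Fin m ⊕ Fin m) A.F} (hg : RG A finSumFinEquiv a b g) :
    (g : Matrix (Fin m ⊕ Fin m) (Fin m ⊕ Fin m) A.F) * J (Fin m) A.F *
      (g : Matrix (Fin m ⊕ Fin m) (Fin m ⊕ Fin m) A.F)ᵀ = A.K.toM finSumFinEquiv (spF A m a) := by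
  rw [hg.1, ← RM.toM_mJ, ← RM.toM_mtr, ← RM.toM_mmul, ← RM.toM_mmul]
  rfl

/-- `Sp (2 m)`, normalized by the similitudes -/
noncomputable def famSp (m : ℕ) : Fam A (finSumFinEquiv (m := m) (n := m)) where
  H := spH A m
  inH a _ := Nat.beq (spF A m a) (A.K.mJ m)
  nm a _ := force (spF A m a) fun P =>
    Nat.beq P (A.K.mmul (m + m) (A.K.msc (m + m) (A.K.ent (m + m) P m 0)) (A.K.mJ m))
  gr := false
  hin := fun hg h => by rw [mem_spH, spF_spec A hg, beq_eq h, RM.toM_mJ]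
  hnm := fun {a b g} hg h u hu => by
    rw [force_eq] at h
    have h1 := spF_spec A hg
    rw [beq_eq h, RM.toM_mmul, RM.toM_msc, RM.toM_mJ] at h1
    generalize A.K.val _ = c at h1
    rw [Matrix.scalar_apply, ← Matrix.smul_eq_diagonal_mul] at h1
    have h2 : c • (((g⁻¹ : GL (Fin m ⊕ Fin m) A.F) : Matrix (Fin m ⊕ Fin m) (Fin m ⊕ Fin m) A.F) * J (Fin m) A.F *
        ((g⁻¹ : GL (Fin m ⊕ Fin m) A.F) : Matrix (Fin m ⊕ Fin m) (Fin m ⊕ Fin m) A.F)ᵀ) = J (Fin m) A.F := by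
      rw [← Matrix.smul_mul, ← Matrix.mul_smul, ← h1, ← mul_assoc, ← mul_assoc, Units.inv_mul, one_mul, mul_assoc,
        ← transpose_mul, Units.inv_mul, transpose_one, mul_one]
    have h3 : ∀ X : Matrix (Fin m ⊕ Fin m) (Fin m ⊕ Fin m) A.F, c • X = c • J (Fin m) A.F → X = J (Fin m) A.F := by
      intro X k
      by_cases hc : c = 0
      · rw [hc, zero_smul] at h2
        have k1 := J_squared (Fin m) A.F
        rw [← h2, zero_mul] at k1
        rw [← mul_one X, ← neg_neg (1 : Matrix (Fin m ⊕ Fin m) (Fin m ⊕ Fin m) A.F), ← k1, ← h2, neg_zero, mul_zero]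
      · exact smul_right_injective _ hc k
    rw [mem_spH] at hu ⊢
    refine h3 _ ?_
    rw [← h1]
    conv_rhs => rw [← hu, ← h2]
    simp only [Units.val_mul, transpose_mul, Matrix.mul_smul, Matrix.smul_mul, mul_assoc]
  hphi := fun u hu => by
    rw [mem_spH] at hu ⊢
    have h1 : (J (Fin m) A.F).map A.fr = J (Fin m) A.F := by
      ext i j
      rcases i with i | i <;> rcases j with j | j <;> simp [J, Matrix.one_apply, apply_ite A.fr]
    rw [phi_val, ← h1, ← transpose_map, ← Matrix.map_mul, ← Matrix.map_mul, hu]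
  htau := fun h => by cases h

theorem card_famSp (m q : ℕ) (hq : A.p ^ A.k = q) :
    Nat.card (famSp A m).H ∣ q ^ (m ^ 2) * ∏ i ∈ Finset.range m, (q ^ (2 * (i + 1)) - 1) := by
  rw [← S0245.result (F := A.F) (A.card.trans hq) m]
  refine Subgroup.card_dvd_of_injective (MonoidHom.mk' (fun g : (famSp A m).H =>
    (⟨_, g.2⟩ : symplecticGroup (Fin m) A.F)) fun _ _ => rfl) fun a b k => Subtype.ext (Units.ext ?_)
  exact congrArg Subtype.val k

theorem isZ_spec {a b : ℕ} {g : GL (Fin 8) A.F} (hg : RG A (Equiv.refl _) a b g)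
    (h : (Nat.beq (A.K.mmul 8 a b) (A.K.msc 8 1) && A.K.isZ a) = true) : g ∈ Cfsg.Lie.G2 A.F := by
  obtain ⟨u, hu⟩ := A.K.mG2.ex_of (a := a) (w := b) h
  rw [show g = u from Units.ext (hg.1.trans hu.symm)]
  exact u.2

theorem zorn_map {F : Type} [Field F] (σ : F ≃+* F) (x y : Fin 8 → F) :
    Cfsg.Lie.zornMul (σ ∘ x) (σ ∘ y) = σ ∘ Cfsg.Lie.zornMul x y := by
  ext k
  fin_cases k <;> simp [Cfsg.Lie.zornMul, Cfsg.Lie.dot3, Cfsg.Lie.cross3]

/-- `G₂` -/
noncomputable def famG2 : Fam A (Equiv.refl (Fin 8)) where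
  H := Cfsg.Lie.G2 A.F
  inH a b := Nat.beq (A.K.mmul 8 a b) (A.K.msc 8 1) && A.K.isZ a
  nm a b := Nat.beq (A.K.mmul 8 a b) (A.K.msc 8 1) && A.K.isZ a
  gr := false
  hin := fun hg h => isZ_spec A hg h
  hnm := fun hg h u hu => Subgroup.mul_mem _ (Subgroup.mul_mem _ (isZ_spec A hg h) hu)
    (Subgroup.inv_mem _ (isZ_spec A hg h))
  hphi := fun u hu x y => by
    have h1 : ∀ v : Fin 8 → A.F, (u : Matrix (Fin 8) (Fin 8) A.F).map A.fr *ᵥ (A.fr ∘ v) =
        A.fr ∘ ((u : Matrix (Fin 8) (Fin 8) A.F) *ᵥ v) := fun v =>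
      funext fun i => (RingHom.map_mulVec A.fr.toRingHom (u : Matrix (Fin 8) (Fin 8) A.F) v i).symm
    obtain ⟨x, rfl⟩ : ∃ v, x = A.fr ∘ v := ⟨A.fr.symm ∘ x, funext fun i => (A.fr.apply_symm_apply _).symm⟩
    obtain ⟨y, rfl⟩ : ∃ v, y = A.fr ∘ v := ⟨A.fr.symm ∘ y, funext fun i => (A.fr.apply_symm_apply _).symm⟩
    show (u : Matrix (Fin 8) (Fin 8) A.F).map A.fr *ᵥ _ = Cfsg.Lie.zornMul
      ((u : Matrix (Fin 8) (Fin 8) A.F).map A.fr *ᵥ _) ((u : Matrix (Fin 8) (Fin 8) A.F).map A.fr *ᵥ _)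
    rw [zorn_map, h1, h1, h1, zorn_map]
    exact congrArg (A.fr ∘ ·) (hu x y)
  htau := fun h => by cases h

theorem card_famG2 (q : ℕ) (hq : A.p ^ A.k = q) : Nat.card (famG2 A).H = q ^ 6 * (q ^ 2 - 1) * (q ^ 6 - 1) := by
  show Nat.card (Cfsg.Lie.G2 A.F) = _
  rw [H638.G2Iso.card_G2, Nat.card_eq_fintype_card, A.card, hq]

end Cfsg.Agent.FS.N.M
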