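import Cfsg.Agent.FS.N.M.Fams

/-!
# The fields of the models (helper44, project FS/N; generated)
-/

set_option autoImplicit false

namespace Cfsg.Agent.FS.N.M

open Cfsg Cfsg.Agent.FS.Real

/-- the field with `3 ^ 1` elements -/
noncomputable def f3_1 : FF := ffZ 3 2 (by norm_num) (by norm_num)

/-- the field with `3 ^ 2` elements -/
noncomputable def f3_2 : FF := f3_1.quad 2 (by decide +kernel)

/-- the field with `3 ^ 4` elements -/
noncomputable def f3_4 : FF := f3_2.quad 5 (by decide +kernel)

/-- the field with `3 ^ 8` elements -/
noncomputable def f3_8 : FF := f3_4.quad 16 (by decide +kernel)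

/-- the field with `7 ^ 1` elements -/
noncomputable def f7_1 : FF := ffZ 7 3 (by norm_num) (by norm_num)

/-- the field with `7 ^ 2` elements -/
noncomputable def f7_2 : FF := f7_1.quad 3 (by decide +kernel)

/-- the field with `7 ^ 4` elements -/
noncomputable def f7_4 : FF := f7_2.quad 9 (by decide +kernel)

/-- the field with `7 ^ 8` elements -/
noncomputable def f7_8 : FF := f7_4.quad 64 (by decide +kernel)

/-- the field with `31 ^ 1` elements -/
noncomputable def f31_1 : FF := ffZ 31 5 (by norm_num) (by norm_num)

/-- the field with `31 ^ 2` elements -/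
noncomputable def f31_2 : FF := f31_1.quad 3 (by decide +kernel)

/-- the field with `31 ^ 4` elements -/
noncomputable def f31_4 : FF := f31_2.quad 33 (by decide +kernel)

/-- the field with `127 ^ 1` elements -/
noncomputable def f127_1 : FF := ffZ 127 7 (by norm_num) (by norm_num)

/-- the field with `127 ^ 2` elements -/
noncomputable def f127_2 : FF := f127_1.quad 3 (by decide +kernel)

/-- the field with `7681 ^ 1` elements -/
noncomputable def f7681_1 : FF := ffZ 7681 13 (by norm_num) (by norm_num)

/-- the field with `5 ^ 1` elements -/
noncomputable def f5_1 : FF := ffZ 5 3 (by norm_num) (by norm_num)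

/-- the field with `5 ^ 2` elements -/
noncomputable def f5_2 : FF := f5_1.quad 2 (by decide +kernel)

/-- the field with `5 ^ 4` elements -/
noncomputable def f5_4 : FF := f5_2.quad 8 (by decide +kernel)

/-- the field with `5 ^ 8` elements -/
noncomputable def f5_8 : FF := f5_4.quad 64 (by decide +kernel)

/-- the field with `17 ^ 1` elements -/
noncomputable def f17_1 : FF := ffZ 17 5 (by norm_num) (by norm_num)

/-- the field with `17 ^ 2` elements -/
noncomputable def f17_2 : FF := f17_1.quad 3 (by decide +kernel)

/-- the field with `17 ^ 4` elements -/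
noncomputable def f17_4 : FF := f17_2.quad 32 (by decide +kernel)

/-- the field with `191 ^ 1` elements -/
noncomputable def f191_1 : FF := ffZ 191 8 (by norm_num) (by norm_num)

end Cfsg.Agent.FS.N.M
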