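import Cfsg.Agent.FS.N.M.Tw
import Cfsg.Agent.FS.Real.Mdl

/-!
# Realisations for `Models2` (helper44, project FS/N)

* `Base D G x K`: `x` generates a Sylow 2-subgroup `T` of the finite group `G` with the presentation `D`, the system
  `F_T(G)` has trivial core and is not decomposable, and `T ⊓ O²(G)` is the set of the normal forms with index in the mask `K`.
* `Rz2 p G x`: `G` is a model for the entry `p`.
* `models2_list`: `Models2` from a list of models which are pairwise not twisted (`NT`).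
-/

set_option autoImplicit false

namespace Cfsg.Agent.FS.N.M

open Cfsg Cfsg.FusionSystem Cfsg.Agent.H752 Cfsg.Agent.H759 Cfsg.Agent.FS.Th Cfsg.Agent.FS.Real

section defs

variable {G : Type} [Group G]

/-- `S ⊓ O²(G)` -/
def res (S : Subgroup G) : Subgroup G := S ⊓ pResidual 2 G

/-- not decomposable -/
def NDG (S : Subgroup G) : Prop :=
  ∀ X Y : Subgroup G, X ≠ ⊥ → Y ≠ ⊥ → X ⊓ Y = ⊥ → X ⊔ Y = res S → (∀ u ∈ X, ∀ v ∈ Y, u * v = v * u) →
    (∀ g u : G, g * g * g = 1 → u ∈ S → g * u * g⁻¹ ∈ S → g * (g * u * g⁻¹) * g⁻¹ ∈ S →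
      (u ∈ X → g * u * g⁻¹ ∈ X) ∧ (u ∈ Y → g * u * g⁻¹ ∈ Y)) → False

/-- the mask of `S ⊓ O²(G)` -/
def HK (D : PcD) (x : ℕ → G) (K : ℕ) : Prop := ∀ a, a < D.N → (el x D.n a ∈ pResidual 2 G ↔ tb K a = true)

/-- an element of odd order normalizes `S` and does not centralize it -/
def TopG (S : Subgroup G) : Prop :=
  ∃ (g : G) (k : ℕ), Odd k ∧ g ^ k = 1 ∧ (∀ s ∈ S, g * s * g⁻¹ ∈ S) ∧ ∃ s ∈ S, g * s * g⁻¹ ≠ s

/-- the group form of `R34` -/
def R34G (S : Subgroup G) : Prop :=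
  ∃ N : Subgroup G, N.Normal ∧ S ⊓ N = res S ∧ Subgroup.centralizer (res S : Set G) ≤ res S ∧
    Nat.card ↥(N ⊓ Subgroup.normalizer (res S : Set G)) = 192 ∧
    (∀ g : G, (∀ z ∈ res S, (∀ y ∈ res S, z * y = y * z) →
      g * z * g⁻¹ ∈ res S ∧ ∀ y ∈ res S, g * z * g⁻¹ * y = y * (g * z * g⁻¹)) →
        g ∈ Subgroup.normalizer (res S : Set G)) ∧
    (∀ P : Subgroup G, P ≤ res S → Nat.card P = 16 → (∀ x ∈ P, x * x = 1) → ∀ s ∈ S, s ∉ res S →
      (∀ x ∈ P, s * x * s⁻¹ ∈ P) → ∀ x ∈ P, s * x = x * s → ∃ y ∈ P, x = s * y * s⁻¹ * y⁻¹) ∧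
    ∃ t ∈ N, t ∈ Subgroup.normalizer (res S : Set G) ∧ t ^ 3 = 1 ∧ ∀ y ∈ res S, t * y = y * t → y = 1

/-- the group form of `Mode` -/
def ModeG (D : PcD) (x : ℕ → G) (lam : ℕ) : Prop :=
  (lam = 0 → ∀ i, i < D.n → x i ∈ pResidual 2 G) ∧ (lam ≠ 0 → ∀ (g : G) (a b : ℕ), a < D.N → b < D.N → Act D x g a b →
    Pc.par D.n (a &&& lam) = Pc.par D.n (b &&& lam))

end defs

/-- The data of a model which do not depend on the mode. -/
structure Base (D : PcD) (G : Type) [Group G] (x : ℕ → G) (K : ℕ) : Prop where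
  fin : Finite G
  ex : ∃ T : Sylow 2 G, Gen D T x ∧ (groupFusionSystem (T : Subgroup G)).core = ⊥ ∧ NDG (T : Subgroup G)
  hk : HK D x K

/-- `G` is a model for the entry `p`. -/
structure Rz2 (p : Ent) (G : Type) [Group G] (x : ℕ → G) : Prop where
  fin : Finite G
  ex : ∃ T : Sylow 2 G, Gen p.D T x ∧ (groupFusionSystem (T : Subgroup G)).core = ⊥ ∧ NDG (T : Subgroup G) ∧
    (p.tag = 1 → TopG (T : Subgroup G)) ∧ (p.tag = 2 → R34G (T : Subgroup G))
  mode : ModeG p.D x p.lam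

/-- The system `M` over `A` is induced by `G`. -/
structure Emb (D : PcD) {G : Type} [Group G] (x : ℕ → G) {A : Type} [Group A] (y : ℕ → A) (M : Sys A) (f : A →* G) :
    Prop where
  ind : Ind M f
  inj : Function.Injective f
  el : ∀ a, f (el y D.n a) = el x D.n a
  gen : Gen D f.range x
  hyp : (hyp M).map f = res f.range

section model

variable {G : Type} [Group G] {D : PcD} {x : ℕ → G} {A : Type} [Group A] {y : ℕ → A}

theorem exists_emb [Finite G] {T : Sylow 2 G} (H : Gen D T x) (hy : Gen D ⊤ y) :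
    ∃ (M : Sys A) (f : A →* G), Emb D x y M f ∧ (T : Subgroup G) = f.range ∧ M.IsSaturated 2 ∧
      ((groupFusionSystem (T : Subgroup G)).core = ⊥ → M.core = ⊥) := by
  have : Fact (Nat.Prime 2) := ⟨Nat.prime_two⟩
  obtain ⟨e, he⟩ := hy.exists_equiv H
  let f : A →* G := (T : Subgroup G).subtype.comp (e.toMonoidHom.comp Subgroup.topEquiv.symm.toMonoidHom)
  have hf : Function.Injective f :=
    (Subgroup.subtype_injective _).comp (e.injective.comp Subgroup.topEquiv.symm.injective)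
  have hT : (T : Subgroup G) = f.range := by
    ext g
    constructor
    · intro hg
      refine ⟨e.symm ⟨g, hg⟩, ?_⟩
      show ((e (e.symm ⟨g, hg⟩) : (T : Subgroup G)) : G) = g
      rw [e.apply_symm_apply]
    · rintro ⟨a, rfl⟩
      exact (e _).2
  have hT' : (T : Subgroup G) = (⊤ : Subgroup A).map f := by rw [hT, MonoidHom.range_eq_map]
  have : Finite (⊤ : Subgroup A) := hy.finite
  obtain ⟨M, hM⟩ := exists_pull' (hf := hf) hT' (groupFusionSystem (T : Subgroup G))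
  have hI : Ind M f := by
    intro P a
    have h1 := mp_push_iff hM (P := P) (a := a) (b := fun t => f (a (Function.invFun f t))) fun s _ => by
      show f (a (Function.invFun f (f s))) = _
      rw [Function.leftInverse_invFun hf s]
    rw [← h1]
    constructor
    · rintro ⟨φ, ⟨-, -, g, hg⟩, h2⟩
      refine ⟨g, fun s hs => ?_⟩
      have h3 : φ ⟨f s, s, hs, rfl⟩ = f (a (Function.invFun f (f s))) := h2 (f s) ⟨s, hs, rfl⟩
      rw [Function.leftInverse_invFun hf s] at h3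
      rw [← h3]
      exact hg ⟨f s, s, hs, rfl⟩
    · rintro ⟨g, hg⟩
      refine ⟨conjHom _ g, ⟨?_, ?_, g, fun _ => rfl⟩, ?_⟩
      · rw [hT]
        exact Subgroup.map_le_range f P
      · rintro ⟨_, s, hs, rfl⟩
        show g * f s * g⁻¹ ∈ (T : Subgroup G)
        rw [← hg s hs, hT]
        exact ⟨_, rfl⟩
      · rintro _ ⟨s, hs, rfl⟩
        show g * f s * g⁻¹ = f (a (Function.invFun f (f s)))
        rw [Function.leftInverse_invFun hf s, hg s hs]
  refine ⟨M, f, ⟨hI, hf, he, hT ▸ H, ?_⟩, hT, hM.isSaturated_iff.1 (S5076.result 2 T), fun h => ?_⟩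
  · rw [← hM.hyperfocal_eq 2, S5093.result 2 T, ← hT]
    rfl
  · rwa [hM.core_eq, Subgroup.map_eq_bot_iff_of_injective _ hf] at h

variable {M : Sys A} {f : A →* G}

theorem Emb.oddM (h : Emb D x y M f) {g : G} {k : ℕ} (hk : Odd k) (hg : g ^ k = 1) {P : Subgroup A}
    (hP : ∀ u ∈ P, ∃ v ∈ P, f v = g * f u * g⁻¹) :
    ∃ φ, OddM M P φ ∧ ∀ u ∈ P, f (φ u) = g * f u * g⁻¹ := by
  let φ : A → A := fun u => Function.invFun f (g * f u * g⁻¹)
  have h1 : ∀ u ∈ P, φ u ∈ P ∧ f (φ u) = g * f u * g⁻¹ := fun u hu => by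
    obtain ⟨v, hv, h2⟩ := hP u hu
    have h3 : φ u = v := by
      show Function.invFun f (g * f u * g⁻¹) = v
      rw [← h2, Function.leftInverse_invFun h.inj]
    rw [h3]
    exact ⟨hv, h2⟩
  have h2 : ∀ (m : ℕ), ∀ u ∈ P, f (φ^[m] u) = g ^ m * f u * (g ^ m)⁻¹ := by
    intro m
    induction m with
    | zero => exact fun u _ => by simp
    | succ m ih =>
      intro u hu
      rw [Function.iterate_succ_apply, ih _ (h1 u hu).1, (h1 u hu).2, pow_succ]
      group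
  refine ⟨φ, ⟨(h.ind P φ).2 ⟨g, fun u hu => (h1 u hu).2⟩, fun u hu => (h1 u hu).1, k, hk, fun u hu => h.inj ?_⟩,
    fun u hu => (h1 u hu).2⟩
  rw [h2 k u hu, hg, one_mul, inv_one, mul_one]

theorem Emb.not_dec (h : Emb D x y M f) (hn : NDG f.range) : ¬ Dec M := by
  rintro ⟨X, Y, d⟩
  refine hn (X.map f) (Y.map f) (fun k => d.neX ((Subgroup.map_eq_bot_iff_of_injective _ h.inj).1 k))
    (fun k => d.neY ((Subgroup.map_eq_bot_iff_of_injective _ h.inj).1 k))
    (by rw [← Subgroup.map_inf _ _ _ h.inj, d.inf, Subgroup.map_bot]) (by rw [← Subgroup.map_sup, d.sup, h.hyp]) ?_ ?_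
  · rintro _ ⟨u, hu, rfl⟩ _ ⟨v, hv, rfl⟩
    rw [← map_mul, d.comm u hu v hv, map_mul]
  · rintro g _ hg ⟨u, rfl⟩ h1 h2
    let c : G →* G := (MulAut.conj g).toMonoidHom
    let P : Subgroup A := (f.range.comap c ⊓ (f.range.comap c).comap c).comap f
    obtain ⟨φ, k1, k2⟩ := h.oddM (g := g) (k := 3) (by decide) (by rw [pow_three', hg]) (P := P) (by
      rintro w ⟨⟨v, hv⟩, k2⟩
      have hv' : f v = g * f w * g⁻¹ := hv
      refine ⟨v, ⟨?_, ?_⟩, hv'⟩
      · show g * f v * g⁻¹ ∈ f.range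
        rw [hv']
        exact k2
      · show g * (g * f v * g⁻¹) * g⁻¹ ∈ f.range
        rw [hv', show g * (g * (g * f w * g⁻¹) * g⁻¹) * g⁻¹ = g * g * g * f w * (g * g * g)⁻¹ by group, hg, one_mul,
          inv_one, mul_one]
        exact ⟨w, rfl⟩)
    have hu : u ∈ P := ⟨h1, h2⟩
    obtain ⟨k3, k4⟩ := d.inv P φ k1 u hu
    rw [← k2 u hu]
    exact ⟨fun ⟨v, hv, k⟩ => ⟨_, k3 (h.inj k ▸ hv), rfl⟩, fun ⟨v, hv, k⟩ => ⟨_, k4 (h.inj k ▸ hv), rfl⟩⟩

theorem Emb.top3 (h : Emb D x y M f) (ht : TopG f.range) : Top3 M := by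
  obtain ⟨g, k, hk, hg, h1, _, ⟨s, rfl⟩, h2⟩ := ht
  obtain ⟨φ, k1, k2⟩ := h.oddM hk hg (P := ⊤) fun u _ => by
    obtain ⟨v, hv⟩ := h1 _ ⟨u, rfl⟩
    exact ⟨v, Subgroup.mem_top _, hv⟩
  exact ⟨φ, k1, s, fun k => h2 (by rw [← k2 s (Subgroup.mem_top _), k])⟩

theorem Emb.mem_hyp (h : Emb D x y M f) (u : A) : u ∈ N.hyp M ↔ f u ∈ pResidual 2 G := by
  rw [← Subgroup.mem_map_iff_mem h.inj, h.hyp]
  exact ⟨fun k => k.2, fun k => ⟨⟨u, rfl⟩, k⟩⟩

theorem Emb.r34 [Finite G] (h : Emb D x y M f) {T : Sylow 2 G} (hT : (T : Subgroup G) = f.range) (hr : R34G f.range) :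
    R34 M := by
  obtain ⟨N, h1, h2, h3, h4, h5, h6, h7⟩ := hr
  refine ⟨G, inferInstance, inferInstance, f, T, N, h.ind, h.inj, hT, h1, by rw [h.hyp, hT, h2], by rw [h.hyp]; exact h3,
    by rw [h.hyp]; exact h4, by rw [h.hyp]; exact h5, fun P hP hc hsq s hs hn u hu hsu => ?_,
    by rw [h.hyp]; exact h7⟩
  obtain ⟨_, ⟨v, hv, rfl⟩, k⟩ := h6 (P.map f) (by rw [← h.hyp]; exact Subgroup.map_mono hP)
    (by rw [Subgroup.card_map_of_injective h.inj, hc]) (by
      rintro _ ⟨v, hv, rfl⟩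
      rw [← map_mul, hsq v hv, map_one]) (f s) ⟨s, rfl⟩ (fun k => hs ((h.mem_hyp s).2 k.2)) (by
      rintro _ ⟨v, hv, rfl⟩
      exact ⟨_, hn v hv, by rw [map_mul, map_mul, map_inv]⟩) (f u) ⟨u, hu, rfl⟩ (by rw [← map_mul, hsu, map_mul])
  exact ⟨v, hv, h.inj (by rw [k, map_mul, map_mul, map_mul, map_inv, map_inv])⟩

theorem Emb.mode (h : Emb D x y M f) (hy : Gen D ⊤ y) {lam : ℕ} (hm : ModeG D x lam) : Mode D y lam M := by
  refine ⟨fun k => eq_top_iff.2 (hy.le_of fun i hi => (h.mem_hyp _).2 ?_), fun k P φ hφ a b ha hb h1 h2 => ?_⟩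
  · rw [← el_two_pow y _ hi, h.el, el_two_pow x _ hi]
    exact hm.1 k i hi
  · obtain ⟨g, hg⟩ := (h.ind P φ).1 hφ
    have h3 := hg _ h1
    rw [h2, h.el, h.el] at h3
    exact hm.2 k g a b ha hb (act_of_conj h3.symm)

theorem Rz2.model {p : Ent} (h : Rz2 p G x) (hy : Gen p.D ⊤ y) :
    ∃ (M : Sys A) (f : A →* G), Emb p.D x y M f ∧ Hy2 M ∧ Mode p.D y p.lam M ∧ Out p.tag M := by
  obtain ⟨_, ⟨T, H, h1, h2, h3, h4⟩, h5⟩ := h
  obtain ⟨M, f, e, hT, k1, k2⟩ := exists_emb H hy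
  rw [hT] at h2 h3 h4
  exact ⟨M, f, e, ⟨⟨k1, k2 h1⟩, e.not_dec h2⟩, e.mode hy h5, e.ind.isRealizable e.inj T hT, fun k => e.top3 (h3 k),
    fun k => e.r34 hT (h4 k)⟩

end model

/-- The induced systems are not twisted. -/
def NT (D : PcD) {G G' : Type} [Group G] [Group G'] (x : ℕ → G) (x' : ℕ → G') : Prop :=
  ∀ (A : Type) [Group A] (y : ℕ → A) (M M' : Sys A) (f : A →* G) (f' : A →* G'), Gen D ⊤ y → Emb D x y M f →
    Emb D x' y M' f' → ¬ Tw M M'

section nt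

variable {G G' : Type} [Group G] [Group G'] {D : PcD} {x : ℕ → G} {x' : ℕ → G'}

theorem NT.symm (h : NT D x x') : NT D x' x := fun A _ y M M' f f' hy e e' k => h A y M' M f' f hy e' e k.symm

theorem nt_of_sep (h : Sep D x x') : NT D x x' := fun _ _ _ _ _ _ _ hy e e' =>
  not_tw h hy e.ind e.inj e.el e'.ind e'.inj e'.gen

end nt

/-- a model for the entry `p` -/
structure Pk (p : Ent) where
  /-- the group -/
  G : Type
  [grp : Group G]
  /-- the generators -/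
  x : ℕ → G
  rz : Rz2 p G x

attribute [instance] Pk.grp

/-- **The models of an entry.** -/
theorem models2_list {p : Ent} (L : List (Pk p)) (h : L.Pairwise fun a b => NT p.D a.x b.x) : Models2 p L.length := by
  intro A _ y hy
  choose M f h1 h2 h3 h4 using fun i : Fin L.length => (L.get i).rz.model hy
  refine ⟨M, fun i => ⟨h2 i, h3 i, h4 i⟩, fun i j k => ?_⟩
  rw [List.pairwise_iff_get] at h
  rcases lt_trichotomy i j with h5 | h5 | h5
  · exact absurd k (h i j h5 A y _ _ _ _ hy (h1 i) (h1 j))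
  · exact h5
  · exact absurd k.symm (h j i h5 A y _ _ _ _ hy (h1 j) (h1 i))

theorem models2_one {p : Ent} {G : Type} [Group G] {x : ℕ → G} (h : Rz2 p G x) : Models2 p 1 :=
  models2_list [⟨G, x, h⟩] (List.pairwise_singleton _ _)

theorem models2_two {p : Ent} {G G' : Type} [Group G] [Group G'] {x : ℕ → G} {x' : ℕ → G'} (h : Rz2 p G x)
    (h' : Rz2 p G' x') (s : NT p.D x x') : Models2 p 2 :=
  models2_list [⟨G, x, h⟩, ⟨G', x', h'⟩] (List.pairwise_pair.2 s)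

end Cfsg.Agent.FS.N.M
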