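import Cfsg.Agent.FS.N.Defs

/-!
# Twists and the pigeonhole (helper44, project FS/N)
-/

set_option autoImplicit false

namespace Cfsg.Agent.FS.N.M

open Cfsg Cfsg.FusionSystem Cfsg.Agent.H752 Cfsg.Agent.H759 Cfsg.Agent.FS.Th Cfsg.Agent.FS.Real

variable {A : Type} [Group A]

theorem push_of_tw {F F' : Sys A} {θ : MulAut A}
    (h : ∀ (P : Subgroup A) (a b : A → A), (∀ x ∈ P, b (θ x) = θ (a x)) →
      (Mp F' (P.map θ.toMonoidHom) b ↔ Mp F P a)) :
    IsPush (f := θ.toMonoidHom) θ.injective F F' := by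
  refine ⟨(Subgroup.map_top_of_surjective _ θ.surjective).symm, fun P φ => ?_⟩
  have h1 := h P (ex φ) (ex (cb (f := θ.toMonoidHom) θ.injective φ)) fun x hx => by
    rw [ex_apply _ (show θ x ∈ P.map θ.toMonoidHom from ⟨x, hx, rfl⟩), ex_apply _ hx]
    exact cb_apply (f := θ.toMonoidHom) θ.injective φ ⟨x, hx⟩ _
  exact ⟨fun k => (h1.1 (mp_ex k)).mem_hom fun x hx => (ex_apply _ hx).symm,
    fun k => (h1.2 (mp_ex k)).mem_hom fun x hx => (ex_apply _ hx).symm⟩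

/-- A twist carries the hyperfocal subgroups to each other. -/
theorem tw_hyp {F F' : Sys A} (h : Tw F F') : ∃ θ : MulAut A, hyp F' = (hyp F).map θ.toMonoidHom ∧
    ∀ (P : Subgroup A) (a b : A → A), (∀ x ∈ P, b (θ x) = θ (a x)) →
      (Mp F' (P.map θ.toMonoidHom) b ↔ Mp F P a) := by
  obtain ⟨θ, h⟩ := h
  exact ⟨θ, (push_of_tw h).hyperfocal_eq 2, h⟩

theorem ind_comp {F F' : Sys A} {θ : MulAut A}
    (h : ∀ (P : Subgroup A) (a b : A → A), (∀ x ∈ P, b (θ x) = θ (a x)) →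
      (Mp F' (P.map θ.toMonoidHom) b ↔ Mp F P a)) {G : Type*} [Group G] {f : A →* G} (hf : Ind F' f) :
    Ind F (f.comp θ.toMonoidHom) := by
  intro P a
  rw [← h P a (fun y => θ (a (θ⁻¹ y))) (fun x _ => by
    show θ (a (θ⁻¹ (θ x))) = _
    rw [MulAut.inv_apply_self]), hf]
  refine exists_congr fun g => ⟨fun k x hx => ?_, ?_⟩
  · have h1 := k (θ x) ⟨x, hx, rfl⟩
    rw [MulAut.inv_apply_self] at h1
    exact h1
  · rintro k _ ⟨x, hx, rfl⟩
    show f (θ (a (θ⁻¹ (θ x)))) = _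
    rw [MulAut.inv_apply_self]
    exact k x hx

theorem top3_tw {F F' : Sys A} (h : Tw F F') (h3 : Top3 F') : Top3 F := by
  obtain ⟨θ, h⟩ := h
  obtain ⟨f, ⟨h1, -, k, hk, h2⟩, x, hx⟩ := h3
  refine ⟨fun y => θ⁻¹ (f (θ y)), ⟨?_, fun _ _ => Subgroup.mem_top _, k, hk, fun y _ => ?_⟩, θ⁻¹ x, fun h4 => hx ?_⟩
  · refine (h ⊤ _ f fun y _ => (MulAut.apply_inv_self _ _ _).symm).1 ?_
    rwa [Subgroup.map_top_of_surjective _ θ.surjective]
  · have h4 : ∀ (m : ℕ) (y : A), (fun y => θ⁻¹ (f (θ y)))^[m] y = θ⁻¹ (f^[m] (θ y)) := by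
      intro m
      induction m with
      | zero => exact fun y => (MulAut.inv_apply_self _ _ _).symm
      | succ m ih =>
        intro y
        rw [Function.iterate_succ_apply, ih, MulAut.apply_inv_self, Function.iterate_succ_apply]
    rw [h4, h2 _ (Subgroup.mem_top _), MulAut.inv_apply_self]
  · have h5 : θ⁻¹ (f (θ (θ⁻¹ x))) = θ⁻¹ x := h4
    rw [MulAut.apply_inv_self] at h5
    exact (θ⁻¹ : MulAut A).injective h5

theorem r34_tw {F F' : Sys A} (h : Tw F F') (h3 : R34 F') : R34 F := by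
  obtain ⟨θ, hh, h⟩ := tw_hyp h
  obtain ⟨G, _, _, f, S, N, h1, h2, h3, h4, h5, h6, h7, h8, h9, h10⟩ := h3
  have e : (hyp F).map (f.comp θ.toMonoidHom) = (hyp F').map f := by rw [hh, Subgroup.map_map]
  refine ⟨G, inferInstance, inferInstance, f.comp θ.toMonoidHom, S, N, ind_comp h h1, h2.comp θ.injective,
    by rw [range_comp_aut, h3], h4, by rw [e, h5], by rw [e]; exact h6, by rw [e]; exact h7, by rw [e]; exact h8,
    fun P hP hc hsq s hs hn x hx hsx => ?_, by rw [e]; exact h10⟩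
  obtain ⟨_, ⟨y, hy, rfl⟩, k⟩ := h9 (P.map θ.toMonoidHom) (by rw [hh]; exact Subgroup.map_mono hP)
    (by rw [Subgroup.card_map_of_injective θ.injective, hc]) (by
      rintro _ ⟨y, hy, rfl⟩
      rw [← map_mul, hsq y hy, map_one]) (θ s) (by
      rw [hh]
      rintro ⟨y, hy, k⟩
      exact hs (θ.injective k ▸ hy)) (by
      rintro _ ⟨y, hy, rfl⟩
      exact ⟨_, hn y hy, by rw [map_mul, map_mul, map_inv]; rfl⟩) (θ x) ⟨x, hx, rfl⟩ (by rw [← map_mul, hsx, map_mul])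
  refine ⟨y, hy, θ.injective ?_⟩
  rw [k, map_mul, map_mul, map_mul, map_inv, map_inv]
  rfl

theorem out_tw {tag : ℕ} {F F' : Sys A} (h : Tw F F') (ho : Out tag F') : Out tag F :=
  ⟨h.isRealizable ho.1, fun k => top3_tw h (ho.2.1 k), fun k => r34_tw h (ho.2.2 k)⟩

theorem boxTw : BoxTw := by
  refine ⟨fun A _ _ tag F F' h ho => out_tw h ho, fun p k h A _ x hx ty hex huniq F hF hm => ⟨x, hx, hm, ?_⟩⟩
  obtain ⟨M, h1, h2⟩ := h A x hx
  choose t ht using fun i => hex (M i) (h1 i).1 (h1 i).2.1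
  have hinj : Function.Injective t := fun i j hij =>
    h2 i j (huniq _ _ (t i) (ht i) (by rw [hij]; exact ht j))
  obtain ⟨s, hs⟩ := hex F hF hm
  obtain ⟨i, rfl⟩ := Finite.injective_iff_surjective.1 hinj s
  exact out_tw (huniq _ _ _ hs (ht i)) (h1 i).2.2

end Cfsg.Agent.FS.N.M
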